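import Mathlib.Data.ZMod.Basic
import Mathlib.RingTheory.PrincipalIdealDomain
import Mathlib.Data.ZMod.QuotientRing
import Mathlib.Algebra.Category.Grp.Zero
import Mathlib.Algebra.Category.Grp.Kernels
import Mathlib.Algebra.Category.Grp.EpiMono
import Mathlib.Algebra.Category.Grp.Colimits
import Mathlib.Tactic.LinearCombination

/-!
# The cokernel of an injective homomorphism `Z/N → (Z/N)²`
-/

set_option autoImplicit false
universe u
open CategoryTheory CategoryTheory.Limits

namespace Groth.Agent.Vancyc.H677.Grp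

theorem map_eq (N : ℕ) (φ : ZMod N →+ ZMod N × ZMod N) (c : ZMod N) :
    φ c = (c * (φ 1).1, c * (φ 1).2) := by
  obtain ⟨n, rfl⟩ := ZMod.intCast_surjective c
  have h : φ (n : ZMod N) = n • φ 1 := by
    rw [← map_zsmul, zsmul_eq_mul, mul_one]
  rw [h]
  ext <;> simp [zsmul_eq_mul]

/-- the vector `φ 1` is unimodular. -/
theorem exists_unimodular (N : ℕ) [NeZero N] (φ : ZMod N →+ ZMod N × ZMod N) (hφ : Function.Injective φ) :
    ∃ s t : ZMod N, s * (φ 1).1 + t * (φ 1).2 = 1 := by
  set a := (φ 1).1 with ha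
  set b := (φ 1).2 with hb
  have hpir : IsPrincipalIdealRing (ZMod N) :=
    IsPrincipalIdealRing.of_surjective (Int.castRingHom (ZMod N)) ZMod.intCast_surjective
  obtain ⟨d, hd⟩ := (IsPrincipalIdealRing.principal (Ideal.span {a, b})).principal
  have hd' : Ideal.span {a, b} = Ideal.span {d} := hd
  have had : a ∈ Ideal.span {d} := hd' ▸ Ideal.subset_span (by simp)
  have hbd : b ∈ Ideal.span {d} := hd' ▸ Ideal.subset_span (by simp)
  have hdab : d ∈ Ideal.span {a, b} := hd' ▸ Ideal.mem_span_singleton_self d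
  obtain ⟨s, t, hst⟩ := Ideal.mem_span_pair.mp hdab
  obtain ⟨a', ha'⟩ := Ideal.mem_span_singleton'.mp had
  obtain ⟨b', hb'⟩ := Ideal.mem_span_singleton'.mp hbd
  have hinj : Function.Injective (fun c : ZMod N => c * d) := by
    intro c c' hcc
    have h0 : (c - c') * d = 0 := by rw [sub_mul, sub_eq_zero]; exact hcc
    have h1 : φ (c - c') = 0 := by
      rw [map_eq, ← ha, ← hb, ← ha', ← hb']
      ext
      · change (c - c') * (a' * d) = 0
        rw [mul_left_comm, h0, mul_zero]
      · change (c - c') * (b' * d) = 0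
        rw [mul_left_comm, h0, mul_zero]
    have h2 := hφ (h1.trans (map_zero φ).symm)
    exact sub_eq_zero.mp h2
  obtain ⟨e, he⟩ := (Finite.injective_iff_surjective.mp hinj) 1
  refine ⟨e * s, e * t, ?_⟩
  have he' : e * d = 1 := he
  rw [mul_assoc, mul_assoc, ← mul_add, hst, he']

/-- the cokernel of an injective homomorphism `Z/N → (Z/N)²` is `Z/N`. -/
theorem exists_cokernel_equiv (N : ℕ) [NeZero N] (φ : ZMod N →+ ZMod N × ZMod N)
    (hφ : Function.Injective φ) : Nonempty ((ZMod N × ZMod N) ⧸ φ.range ≃+ ZMod N) := by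
  obtain ⟨s, t, hst⟩ := exists_unimodular N φ hφ
  set a := (φ 1).1 with ha
  set b := (φ 1).2 with hb
  let ψ : ZMod N × ZMod N →+ ZMod N :=
    { toFun := fun p => b * p.1 - a * p.2
      map_zero' := by simp
      map_add' := fun p q => by simp only [Prod.fst_add, Prod.snd_add]; ring }
  have hψ : Function.Surjective ψ := by
    intro c
    refine ⟨(c * t, - (c * s)), ?_⟩
    change b * (c * t) - a * (-(c * s)) = c
    linear_combination c * hst
  have hker : ψ.ker = φ.range := by
    ext p
    rw [AddMonoidHom.mem_ker, AddMonoidHom.mem_range]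
    constructor
    · intro hp
      have hp' : b * p.1 - a * p.2 = 0 := hp
      refine ⟨s * p.1 + t * p.2, ?_⟩
      rw [map_eq, ← ha, ← hb]
      ext
      · change (s * p.1 + t * p.2) * a = p.1
        linear_combination p.1 * hst - t * hp'
      · change (s * p.1 + t * p.2) * b = p.2
        linear_combination p.2 * hst + s * hp'
    · rintro ⟨c, rfl⟩
      rw [map_eq, ← ha, ← hb]
      change b * (c * a) - a * (c * b) = 0
      ring
  exact ⟨(QuotientAddGroup.quotientAddEquivOfEq hker.symm).trans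
    (QuotientAddGroup.quotientKerEquivOfSurjective ψ hψ)⟩

/-- categorical form. -/
theorem nonempty_cokernel_iso (N : ℕ) [NeZero N] {A B : AddCommGrpCat.{u}} (g : A ⟶ B) [Mono g]
    (eA : A ≃+ ZMod N) (eB : B ≃+ ZMod N × ZMod N) :
    Nonempty (cokernel g ≅ AddCommGrpCat.of (ULift.{u} (ZMod N))) := by
  let φ : ZMod N →+ ZMod N × ZMod N := eB.toAddMonoidHom.comp (g.hom.comp eA.symm.toAddMonoidHom)
  have hg : Function.Injective g := (AddCommGrpCat.mono_iff_injective g).mp inferInstance
  have hφ : Function.Injective φ := eB.injective.comp (hg.comp eA.symm.injective)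
  obtain ⟨e⟩ := exists_cokernel_equiv N φ hφ
  have hmap : g.hom.range.map eB.toAddMonoidHom = φ.range := by
    ext p
    simp only [AddSubgroup.mem_map, AddMonoidHom.mem_range]
    constructor
    · rintro ⟨_, ⟨a, rfl⟩, rfl⟩
      exact ⟨eA a, by simp [φ]⟩
    · rintro ⟨c, rfl⟩
      exact ⟨g.hom (eA.symm c), ⟨_, rfl⟩, rfl⟩
  let e2 : (B ⧸ g.hom.range) ≃+ ((ZMod N × ZMod N) ⧸ φ.range) :=
    QuotientAddGroup.congr g.hom.range φ.range eB hmap
  exact ⟨AddCommGrpCat.cokernelIsoQuotient g ≪≫
    (((e2.trans e).trans AddEquiv.ulift.symm).toAddCommGrpIso)⟩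

end Groth.Agent.Vancyc.H677.Grp
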