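import Groth.Agent.Etrest.HPush
import Groth.Agent.Etrest.SHPoint
import Groth.Agent.Etrest.HConstIso
import Groth.Agent.Sga4B.ConstLC
import Mathlib.RingTheory.Artinian.Ring

/-!
# Étale cohomology of the spectrum of a finite algebra over a separably closed field
-/

set_option autoImplicit false
universe u
open CategoryTheory CategoryTheory.Limits AlgebraicGeometry Opposite

namespace Groth.Agent.Vancyc.H677.TwoPts

/-- vanishing in positive degrees. -/
theorem subsingleton_H_of_finite (Ω : Type u) [Field Ω] [IsSepClosed Ω] (A : Type u) [CommRing A]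
    [Algebra Ω A] [Module.Finite Ω A] (F : EtCoh.Ab (Spec (CommRingCat.of A))) (q : ℕ) (hq : 0 < q) :
    Subsingleton (EtCoh.H (Spec (CommRingCat.of A)) F q) := by
  let p : Spec (CommRingCat.of A) ⟶ Spec (CommRingCat.of Ω) :=
    Spec.map (CommRingCat.ofHom (algebraMap Ω A))
  have hp : IsFinite p := (IsFinite.SpecMap_iff _).mpr (RingHom.finite_algebraMap.mpr inferInstance)
  obtain ⟨e⟩ := Groth.Agent.Etrest.HPush.nonempty_HPushEquiv_of_isFinite p F q
  have := Groth.Agent.Etrest.SHPoint.subsingleton_H_of_sepClosed Ω ((EtCoh.push p).obj F) q hq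
  exact e.toEquiv.subsingleton

/-- degree zero cohomology of a constant sheaf on a finite discrete scheme. -/
theorem nonempty_H0_discrete (X : Scheme.{u}) [Finite X] [DiscreteTopology X] (M : Type) [AddCommGroup M] :
    Nonempty (EtCoh.H X (EtCoh.const X M) 0 ≃+ (X → M)) := by
  let e1 : EtCoh.H X (EtCoh.const X M) 0 ≃+ EtCoh.sect (EtCoh.const X M) (EtCoh.top X) :=
    Sheaf.H.equiv₀ _ (EtCore.topIsTerminal X)
  let e2 : EtCoh.sect (EtCoh.const X M) (EtCoh.top X) ≃+
      LocallyConstant (EtCoh.top X).left (ULift.{u + 1} M) :=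
    (((sheafToPresheaf _ _).mapIso (Groth.Agent.Sga4B.ConstLC.constIso X M)).app
      (op (EtCoh.top X))).addCommGroupIsoToAddEquiv
  let e3 : LocallyConstant X (ULift.{u + 1} M) ≃+ (X → M) :=
    AddEquiv.ofBijective
      ({ toFun := fun f x => (f x).down
         map_zero' := rfl
         map_add' := fun _ _ => rfl } : LocallyConstant X (ULift.{u + 1} M) →+ (X → M))
      ⟨fun a b h => by
        ext x
        exact congrFun h x, fun g => ⟨⟨fun x => ULift.up (g x), IsLocallyConstant.of_discrete _⟩, rfl⟩⟩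
  exact ⟨e1.trans (e2.trans e3)⟩

/-- invariance under isomorphism. -/
theorem props_of_iso (Ω : Type u) [Field Ω] [IsSepClosed Ω] (A : Type u) [CommRing A]
    [Algebra Ω A] [Module.Finite Ω A] (hcard : Nat.card (PrimeSpectrum A) = 2) (Z : Scheme.{u})
    (e : Z ≅ Spec (CommRingCat.of A)) (M : Type) [AddCommGroup M] :
    (∀ q : ℕ, 0 < q → Subsingleton (EtCoh.H Z (EtCoh.const Z M) q)) ∧
      Nonempty (EtCoh.H Z (EtCoh.const Z M) 0 ≃+ M × M) := by
  refine ⟨fun q hq => ?_, ?_⟩
  · obtain ⟨e1⟩ := Groth.Agent.Etrest.HConstIso.nonempty_HConst e M q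
    have := subsingleton_H_of_finite Ω A (EtCoh.const _ M) q hq
    exact e1.symm.toEquiv.subsingleton
  · obtain ⟨e1⟩ := Groth.Agent.Etrest.HConstIso.nonempty_HConst e M 0
    have hart : IsArtinianRing A := IsArtinianRing.of_finite Ω A
    have hfin : Finite (PrimeSpectrum A) := inferInstance
    have hfin' : Finite (Spec (CommRingCat.of A)) := hfin
    have hd : DiscreteTopology (Spec (CommRingCat.of A)) :=
      inferInstanceAs (DiscreteTopology (PrimeSpectrum A))
    obtain ⟨e2⟩ := nonempty_H0_discrete (Spec (CommRingCat.of A)) M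
    let e3 : (PrimeSpectrum A) ≃ Fin 2 := (Finite.equivFin _).trans (finCongr hcard)
    let e4 : ((Spec (CommRingCat.of A) : Scheme.{u}) → M) ≃+ (Fin 2 → M) :=
      { (Equiv.arrowCongr e3 (Equiv.refl M) : ((PrimeSpectrum A) → M) ≃ (Fin 2 → M)) with
        map_add' := fun _ _ => rfl }
    let e5 : (Fin 2 → M) ≃+ M × M :=
      { finTwoArrowEquiv M with
        map_add' := fun _ _ => rfl }
    exact ⟨e1.symm.trans (e2.trans (e4.trans e5))⟩

end Groth.Agent.Vancyc.H677.TwoPts
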