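import Groth.Agent.Vancyc.H677.GenEtale
import Groth.Agent.Vancyc.H677.TwoPts
import Groth.Agent.Vancyc.H677.Grp
import Groth.Agent.S0101
import Groth.Agent.Sga4h.StalkAcyc
import Groth.Agent.Sga4h.SLoc
import Groth.Agent.EtpbcB.GeomPointIndep
import Groth.Agent.Etbase.StalkPull

/-!
# Nearby cycles at an ordinary quadratic point of relative dimension zero
-/

set_option autoImplicit false
universe u
open CategoryTheory CategoryTheory.Limits AlgebraicGeometry Opposite

open scoped TensorProduct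

namespace Groth.Agent.Vancyc.H677.Main0

open IsLocalRing VanCyc FibStalk LocRing GenEtale Groth.Agent.Etrest.StrictLoc

section Pullback

variable {R : Type u} [CommRing R] (Ω : Type u) [Field Ω] [Algebra R Ω]
  {X : Scheme.{u}} (f : X ⟶ Spec (CommRingCat.of R)) (y : X)

/-- the strict localization of the geometric generic fibre. -/
theorem nonempty_pullback_iso :
    letI := (strHom f y).toAlgebra
    Nonempty (pullback (jA R f Ω) (Groth.Agent.Sga4h.SLoc.stalkPt X y) ≅
      Spec (CommRingCat.of (Ω ⊗[R] X.presheaf.stalk y))) := by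
  let _ : Algebra R (X.presheaf.stalk y) := (strHom f y).toAlgebra
  have h : Groth.Agent.Sga4h.SLoc.stalkPt X y ≫ f = toS R (X.presheaf.stalk y) :=
    fromSpecStalk_comp f y
  exact ⟨pullbackSymmetry _ _ ≪≫ pullbackRightPullbackFstIso f (toS R Ω)
      (Groth.Agent.Sga4h.SLoc.stalkPt X y) ≪≫
    pullback.congrHom h rfl ≪≫ pullbackSymmetry _ _ ≪≫ pullbackSpecIso R Ω (X.presheaf.stalk y)⟩

end Pullback

variable (R K Ω : Type u) [CommRing R] [HenselianLocalRing R] [IsSepClosed (ResidueField R)]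
  [Field K] [Algebra R K] [Field Ω] [Algebra K Ω]
  [IsSepClosed Ω] [Algebra R Ω] [IsScalarTower R K Ω]
  {X : Scheme.{u}} (f : X ⟶ Spec (CommRingCat.of R)) [LocallyOfFiniteType f] [Flat f]
  (x : spFib R f) (hxc : IsClosed ({x} : Set (spFib R f)))
  (hq : IsOrdQuadPt (resHom (spStr R f) x) 0)
  (V : X.Opens) (hxV : icl R f x ∈ V) (hV : Smooth (pullback.snd (V.ι ≫ f) (toS R K)))

include hxc hq hxV hV in
/-- the cohomology of the strict localization of the geometric generic fibre. -/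
theorem props_pullback (M : Type) [AddCommGroup M] :
    (∀ q : ℕ, 0 < q → Subsingleton (EtCoh.H (pullback (jA R f Ω)
      (Groth.Agent.Sga4h.SLoc.stalkPt X (icl R f x))) (EtCoh.const _ M) q)) ∧
      Nonempty (EtCoh.H (pullback (jA R f Ω)
        (Groth.Agent.Sga4h.SLoc.stalkPt X (icl R f x))) (EtCoh.const _ M) 0 ≃+ M × M) := by
  obtain ⟨h1, h2, h3, h4, h5⟩ := stalk_props f x hxc hq
  let _ : Algebra R (X.presheaf.stalk (icl R f x)) := (strHom f (icl R f x)).toAlgebra
  obtain ⟨e⟩ := nonempty_pullback_iso Ω f (icl R f x)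
  have h6 : Algebra.Etale K (K ⊗[R] X.presheaf.stalk (icl R f x)) :=
    etale_generic f V hV (icl R f x) hxV (RingHom.finite_algebraMap.mpr h1)
  obtain ⟨-, h7⟩ := split R K Ω (X.presheaf.stalk (icl R f x))
  exact TwoPts.props_of_iso Ω (Ω ⊗[R] X.presheaf.stalk (icl R f x)) (h7.trans h3) _ e M

instance : QuasiCompact (jA R f Ω) := inferInstance

instance : QuasiSeparated (jA R f Ω) := inferInstance

variable {Ω' : Type u} [Field Ω'] [IsSepClosed Ω']
  (ξ : Spec (CommRingCat.of Ω') ⟶ spFib R f) (hξ : ξ.base (closedPoint Ω') = x)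

include hxc hq hξ in
/-- stalks at `ξ` of pull-backs to the special fibre in terms of the strict localization. -/
theorem nonempty_stalk_iso :
    ∃ (_ : IsSepClosed (ResidueField (X.presheaf.stalk (icl R f x)))),
      Nonempty (EtCoh.pull (icl R f) ⋙ EtCoh.stalk ξ ≅
        EtCoh.stalk (resPt (X.presheaf.stalk (icl R f x)) ≫
          Groth.Agent.Sga4h.SLoc.stalkPt X (icl R f x))) := by
  obtain ⟨h1, h2, h3, h4, h5⟩ := stalk_props f x hxc hq
  refine ⟨h5, ?_⟩
  obtain ⟨e⟩ := Groth.Agent.EtpbcB.GeomPointIndep.nonempty_stalkIso (ξ ≫ icl R f)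
    (resPt (X.presheaf.stalk (icl R f x)) ≫ Groth.Agent.Sga4h.SLoc.stalkPt X (icl R f x)) (by
      have e1 : (default : Spec (CommRingCat.of Ω')) = closedPoint Ω' := spec_field_closedPoint _
      have e2 : (resPt (X.presheaf.stalk (icl R f x)) ≫
          Groth.Agent.Sga4h.SLoc.stalkPt X (icl R f x)) default = icl R f x := by
        rw [Scheme.Hom.comp_apply]
        refine (congrArg _ (resPt_closedPoint _ _)).trans ?_
        exact Scheme.fromSpecStalk_closedPoint
      rw [e2, e1, Scheme.Hom.comp_apply]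
      exact congrArg (icl R f) hξ)
  exact ⟨(Groth.Agent.Etbase.StalkPull.stalkPullIso (icl R f) ξ).symm ≪≫ e⟩

include hxc hq in
theorem isStrictLoc : IsStrictLoc (Groth.Agent.Sga4h.SLoc.stalkPt X (icl R f x)) := by
  obtain ⟨h1, h2, h3, h4, h5⟩ := stalk_props f x hxc hq
  exact Groth.Agent.Sga4h.SLoc.isStrictLoc_stalkPt (icl R f x) h4 h5

include hxc hq hξ in
theorem nonempty_psi_iso (M : Type) [AddCommGroup M] (q : ℕ) :
    Nonempty ((EtCoh.stalk ξ).obj (psi R Ω f q ((EtCoh.pull (jA R f Ω)).obj (EtCoh.const X M))) ≅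
      AddCommGrpCat.of (EtCoh.H (pullback (jA R f Ω)
        (Groth.Agent.Sga4h.SLoc.stalkPt X (icl R f x))) (EtCoh.const _ M) q)) := by
  obtain ⟨h5, ⟨e1⟩⟩ := nonempty_stalk_iso R f x hxc hq ξ hξ
  obtain ⟨e2⟩ := Groth.Agent.Sga4h.StalkAcyc.nonempty_stalk_iso_const (jA R f Ω)
    ((EtCoh.pull (jA R f Ω)).obj (EtCoh.const X M)) M (EtCore.pullConst (jA R f Ω) M)
    (isStrictLoc R f x hxc hq) q
  exact ⟨e1.app _ ≪≫ e2⟩

section Mono

variable (R : Type u) [CommRing R] [IsDomain R] (Ω : Type u) [Field Ω] [Algebra R Ω]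
  (hinj : Function.Injective (algebraMap R Ω))
  {X : Scheme.{u}} (f : X ⟶ Spec (CommRingCat.of R)) [Flat f]

include hinj in
/-- every point of `X` is a specialization of a point of the geometric generic fibre. -/
theorem exists_specializes (x : X) : ∃ z : fib R f Ω, jA R f Ω z ⤳ x := by
  let p : Spec (CommRingCat.of Ω) := closedPoint Ω
  have h1 : toS R Ω p ⤳ f x := by
    have h2 : (toS R Ω p).asIdeal = ⊥ := by
      change (closedPoint Ω).asIdeal.comap (algebraMap R Ω) = ⊥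
      have h3 : (closedPoint Ω).asIdeal = ⊥ := IsLocalRing.maximalIdeal_eq_bot
      rw [h3, ← RingHom.ker_eq_comap_bot, (RingHom.injective_iff_ker_eq_bot _).mp hinj]
    have h4 : (toS R Ω p).asIdeal ≤ (f x).asIdeal := by
      rw [h2]
      exact bot_le
    exact (PrimeSpectrum.le_iff_specializes (R := R) (toS R Ω p) (f x)).mp h4
  obtain ⟨x', hx', hfx'⟩ := Flat.generalizingMap f h1
  obtain ⟨z, hz, -⟩ := Scheme.Pullback.exists_preimage_pullback (f := f) (g := toS R Ω) x' p hfx'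
  exact ⟨z, by rw [show jA R f Ω z = x' from hz]; exact hx'⟩

include hinj in
theorem mono_unit (M : Type) [AddCommGroup M] :
    Mono ((EtCoh.pullPushAdj (jA R f Ω)).unit.app (EtCoh.const X M)) :=
  Groth.Agent.Sga4h.StalkAcyc.mono_unit_const (jA R f Ω) M (exists_specializes R Ω hinj f)

end Mono

section Final

variable [IsDomain R] [IsFractionRing R K]

include K in
theorem mono_psi0Unit (M : Type) [AddCommGroup M] :
    Mono ((EtCoh.stalk ξ).map (psi0Unit R Ω f (EtCoh.const X M))) := by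
  have hinj : Function.Injective (algebraMap R Ω) := by
    rw [IsScalarTower.algebraMap_eq R K Ω]
    exact (algebraMap K Ω).injective.comp (IsFractionRing.injective R K)
  have h1 := mono_unit R Ω hinj f M
  have h2 : PreservesFiniteLimits (EtCoh.pull (icl R f)) := Groth.Agent.S0101.result (icl R f)
  have h3 : Mono ((EtCoh.pull (icl R f)).map ((EtCoh.pullPushAdj (jA R f Ω)).unit.app (EtCoh.const X M))) :=
    inferInstance
  infer_instance

include hxc hq hxV hV hξ in
/-- the local Picard-Lefschetz computation in relative dimension zero. -/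
theorem main (N : ℕ) [NeZero N] :
    (∀ q : ℕ, 1 ≤ q →
        IsZero ((EtCoh.stalk ξ).obj (VanCyc.psi R Ω f q ((EtCoh.pull (VanCyc.jA R f Ω)).obj (EtCoh.const X (ZMod N)))))) ∧
      Nonempty ((EtCoh.stalk ξ).obj (VanCyc.psi0 R Ω f ((EtCoh.pull (VanCyc.jA R f Ω)).obj (EtCoh.const X (ZMod N)))) ≅
        AddCommGrpCat.of (ULift.{u + 1} (ZMod N × ZMod N))) ∧
      Mono ((EtCoh.stalk ξ).map (VanCyc.psi0Unit R Ω f (EtCoh.const X (ZMod N)))) ∧
      Nonempty (cokernel ((EtCoh.stalk ξ).map (VanCyc.psi0Unit R Ω f (EtCoh.const X (ZMod N)))) ≅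
        AddCommGrpCat.of (ULift.{u + 1} (ZMod N))) := by
  obtain ⟨p1, ⟨p2⟩⟩ := props_pullback R K Ω f x hxc hq V hxV hV (ZMod N)
  have hm := mono_psi0Unit R K Ω f ξ (ZMod N)
  obtain ⟨e0⟩ := nonempty_psi_iso R Ω f x hxc hq ξ hξ (ZMod N) 0
  let e1 : (EtCoh.stalk ξ).obj (VanCyc.psi0 R Ω f ((EtCoh.pull (VanCyc.jA R f Ω)).obj (EtCoh.const X (ZMod N)))) ≅
      AddCommGrpCat.of (EtCoh.H (pullback (jA R f Ω)
        (Groth.Agent.Sga4h.SLoc.stalkPt X (icl R f x))) (EtCoh.const _ (ZMod N)) 0) :=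
    (EtCoh.stalk ξ).mapIso ((EtCoh.pull (icl R f)).mapIso
      ((EtCoh.push (jA R f Ω)).rightDerivedZeroIsoSelf.symm.app _)) ≪≫ e0
  let e2 : (EtCoh.stalk ξ).obj (VanCyc.psi0 R Ω f ((EtCoh.pull (VanCyc.jA R f Ω)).obj (EtCoh.const X (ZMod N)))) ≃+
      ZMod N × ZMod N := e1.addCommGroupIsoToAddEquiv.trans p2
  let e3 : (EtCoh.stalk ξ).obj ((EtCoh.pull (icl R f)).obj (EtCoh.const X (ZMod N))) ≃+ ZMod N :=
    (((EtCoh.stalk ξ).mapIso (EtCore.pullConst (icl R f) (ZMod N)) ≪≫
      Groth.Agent.Sga4h.StalkAcyc.stalkConstIso ξ (ZMod N)).addCommGroupIsoToAddEquiv).trans AddEquiv.ulift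
  refine ⟨fun q hq' => ?_, ?_, hm, ?_⟩
  · obtain ⟨e⟩ := nonempty_psi_iso R Ω f x hxc hq ξ hξ (ZMod N) q
    have := p1 q hq'
    exact (AddCommGrpCat.isZero_of_subsingleton _).of_iso e
  · exact ⟨(e2.trans AddEquiv.ulift.symm).toAddCommGrpIso⟩
  · exact Grp.nonempty_cokernel_iso N _ e3 e2

end Final

end Groth.Agent.Vancyc.H677.Main0
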