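import Mathlib.RingTheory.Ideal.KrullsHeightTheorem
import Mathlib.RingTheory.MvPolynomial.Basic
import Mathlib.AlgebraicGeometry.Properties
import Mathlib.AlgebraicGeometry.AffineSpace
import Groth.Agent.Sga4h.H13.FamStmt

/-!
# Dimension of the local rings of affine space at the points of the zero section

(D1), (D2) of the S4009 plan (helper327, message 4639).
-/

set_option autoImplicit false
universe u
open CategoryTheory CategoryTheory.Limits AlgebraicGeometry

namespace Groth.Agent.Vancyc.H677.Dim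

open MvPolynomial

section Ring

variable {k : Type*} [CommRing k] [IsDomain k] {ι : Type*} {m : ℕ}

/-- Truncation: `X_i ↦ 0` for `i < j`. -/
noncomputable def tr (k : Type*) [CommRing k] (m j : ℕ) :
    MvPolynomial (ULift (Fin m)) k →+* MvPolynomial (ULift (Fin m)) k :=
  (aeval (R := k) (fun i : ULift (Fin m) => if (i.down : ℕ) < j then
    (0 : MvPolynomial (ULift (Fin m)) k) else X i)).toRingHom

omit [IsDomain k] in
theorem tr_C (j : ℕ) (a : k) : tr k m j (C a) = C a := by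
  simp [tr, MvPolynomial.algebraMap_eq]

omit [IsDomain k] in
theorem tr_X (j : ℕ) (i : ULift (Fin m)) : tr k m j (X i) = if (i.down : ℕ) < j then 0 else X i := by
  simp [tr]

omit [IsDomain k] in
theorem tr_comp (j : ℕ) : (tr k m (j + 1)).comp (tr k m j) = tr k m (j + 1) := by
  refine MvPolynomial.ringHom_ext (fun a => by simp [tr_C]) fun i => ?_
  rw [RingHom.comp_apply, tr_X, tr_X]
  by_cases h : (i.down : ℕ) < j
  · have h' : (i.down : ℕ) < j + 1 := by omega
    rw [if_pos h, if_pos h', map_zero]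
  · rw [if_neg h, tr_X]

/-- Truncation with parameters. -/
noncomputable def trP (k : Type*) [CommRing k] (ι : Type*) (m j : ℕ) :
    MvPolynomial ι (MvPolynomial (ULift (Fin m)) k) →+* MvPolynomial ι (MvPolynomial (ULift (Fin m)) k) :=
  MvPolynomial.map (tr k m j)

omit [IsDomain k] in
theorem trP_comp (j : ℕ) : (trP k ι m (j + 1)).comp (trP k ι m j) = trP k ι m (j + 1) := by
  refine RingHom.ext fun p => ?_
  rw [RingHom.comp_apply, trP, trP, MvPolynomial.map_map, tr_comp]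

theorem le_height_ker (j : ℕ) (hj : j ≤ m) :
    (j : ℕ∞) ≤ (RingHom.ker (trP k ι m j)).height := by
  induction j with
  | zero => simp
  | succ j ih =>
    have h1 : RingHom.ker (trP k ι m j) < RingHom.ker (trP k ι m (j + 1)) := by
      refine lt_of_le_of_ne (fun p hp => ?_) fun h => ?_
      · rw [RingHom.mem_ker] at hp ⊢
        rw [← trP_comp, RingHom.comp_apply, hp, map_zero]
      · have h2 : (C (X ⟨⟨j, hj⟩⟩) : MvPolynomial ι (MvPolynomial (ULift (Fin m)) k)) ∈
            RingHom.ker (trP k ι m (j + 1)) := by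
          rw [RingHom.mem_ker, trP, MvPolynomial.map_C, tr_X]
          simp
        rw [← h, RingHom.mem_ker, trP, MvPolynomial.map_C, tr_X] at h2
        simp at h2
    have h2 := ih (by omega)
    have hp1 : (RingHom.ker (trP k ι m j)).IsPrime := RingHom.ker_isPrime _
    have hp2 : (RingHom.ker (trP k ι m (j + 1))).IsPrime := RingHom.ker_isPrime _
    have h3 := Ideal.height_add_one_le_of_lt_of_isPrime h1
    push_cast
    exact le_trans (add_le_add_left h2 1) h3

omit [IsDomain k] in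
theorem ker_le (p : Ideal (MvPolynomial ι (MvPolynomial (ULift (Fin m)) k)))
    (hp : ∀ i : ULift (Fin m), C (X i) ∈ p) : RingHom.ker (trP k ι m m) ≤ p := by
  have h : (Ideal.Quotient.mk p).comp (trP k ι m m) = Ideal.Quotient.mk p := by
    refine MvPolynomial.ringHom_ext (fun a => ?_) fun i => ?_
    · rw [RingHom.comp_apply, trP, MvPolynomial.map_C]
      have h2 : ((Ideal.Quotient.mk p).comp C).comp (tr k m m) = (Ideal.Quotient.mk p).comp C := by
        refine MvPolynomial.ringHom_ext (fun a => ?_) fun i => ?_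
        · rw [RingHom.comp_apply, tr_C]
        · rw [RingHom.comp_apply, tr_X, if_pos i.down.2, map_zero, RingHom.comp_apply,
            eq_comm, Ideal.Quotient.eq_zero_iff_mem]
          exact hp i
      exact congrFun (congrArg DFunLike.coe h2) a
    · rw [RingHom.comp_apply, trP, MvPolynomial.map_X]
  intro f hf
  rw [RingHom.mem_ker] at hf
  rw [← Ideal.Quotient.eq_zero_iff_mem, ← h, RingHom.comp_apply, hf, map_zero]

theorem le_height (p : Ideal (MvPolynomial ι (MvPolynomial (ULift (Fin m)) k)))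
    (hp : ∀ i : ULift (Fin m), C (X i) ∈ p) : (m : ℕ∞) ≤ p.height :=
  (le_height_ker m le_rfl).trans (Ideal.height_mono (ker_le p hp))

theorem succ_le_height (p : Ideal (MvPolynomial ι (MvPolynomial (ULift (Fin m)) k))) [p.IsPrime]
    (hp : ∀ i : ULift (Fin m), C (X i) ∈ p) (d : MvPolynomial ι k) (hd : d ≠ 0)
    (hdp : MvPolynomial.map C d ∈ p) : ((m + 1 : ℕ) : ℕ∞) ≤ p.height := by
  have hp1 : (RingHom.ker (trP k ι m m)).IsPrime := RingHom.ker_isPrime _
  have h1 : RingHom.ker (trP k ι m m) < p := by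
    refine lt_of_le_of_ne (ker_le p hp) fun h => ?_
    rw [← h, RingHom.mem_ker, trP, MvPolynomial.map_map] at hdp
    have h2 : (tr k m m).comp C = (C : k →+* MvPolynomial (ULift (Fin m)) k) :=
      RingHom.ext fun a => tr_C _ a
    rw [h2] at hdp
    exact hd (MvPolynomial.map_injective _ (MvPolynomial.C_injective _ _) (by rw [hdp, map_zero]))
  push_cast
  exact le_trans (add_le_add_left (le_height_ker m le_rfl) 1)
    (Ideal.height_add_one_le_of_lt_of_isPrime h1)


theorem le_height_of_bijective {A : Type*} [CommRing A]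
    (φ : MvPolynomial ι (MvPolynomial (ULift (Fin m)) k) →+* A) (hφ : Function.Bijective φ) (p : Ideal A)
    (hp : ∀ i : ULift (Fin m), φ (C (X i)) ∈ p) : (m : ℕ∞) ≤ p.height := by
  have h1 : (p.comap (RingEquiv.ofBijective φ hφ)).height = p.height :=
    RingEquiv.height_comap (RingEquiv.ofBijective φ hφ) p
  rw [← h1]
  exact le_height _ fun i => Ideal.mem_comap.2 (hp i)

theorem succ_le_height_of_bijective {A : Type*} [CommRing A]
    (φ : MvPolynomial ι (MvPolynomial (ULift (Fin m)) k) →+* A) (hφ : Function.Bijective φ) (p : Ideal A)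
    [p.IsPrime] (hp : ∀ i : ULift (Fin m), φ (C (X i)) ∈ p) (d : MvPolynomial ι k) (hd : d ≠ 0)
    (hdp : φ (MvPolynomial.map C d) ∈ p) : ((m + 1 : ℕ) : ℕ∞) ≤ p.height := by
  have h1 : (p.comap (RingEquiv.ofBijective φ hφ)).height = p.height :=
    RingEquiv.height_comap (RingEquiv.ofBijective φ hφ) p
  rw [← h1]
  have : (p.comap (RingEquiv.ofBijective φ hφ)).IsPrime := Ideal.comap_isPrime _ _
  exact succ_le_height _ (fun i => Ideal.mem_comap.2 (hp i)) d hd (Ideal.mem_comap.2 hdp)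

theorem le_height_of_bijective' {A : Type*} [CommRing A]
    (φ : MvPolynomial (ULift (Fin m)) k →+* A) (hφ : Function.Bijective φ) (p : Ideal A)
    (hp : ∀ i : ULift (Fin m), φ (X i) ∈ p) : (m : ℕ∞) ≤ p.height := by
  let e1 : MvPolynomial PEmpty.{1} (MvPolynomial (ULift (Fin m)) k) ≃+* MvPolynomial (ULift (Fin m)) k :=
    MvPolynomial.isEmptyRingEquiv _ _
  refine le_height_of_bijective (φ.comp e1.toRingHom) ?_ p fun i => ?_
  · rw [RingHom.coe_comp]
    exact hφ.comp e1.bijective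
  have h3 : e1 (C (X i)) = X i := e1.apply_symm_apply (X i)
  change φ (e1 (C (X i))) ∈ p
  rw [h3]
  exact hp i

end Ring

section Affine

theorem exists_prime {X : Scheme.{u}} [IsAffine X] (x : X) :
    ∃ p : Ideal Γ(X, ⊤), p.IsPrime ∧ (∀ s, s ∈ p ↔ x ∉ X.basicOpen s) ∧
      ringKrullDim (X.presheaf.stalk x) = p.height := by
  have hU := isAffineOpen_top X
  refine ⟨(hU.primeIdealOf ⟨x, trivial⟩).asIdeal, inferInstance, fun s => ?_, ?_⟩
  · rw [Scheme.mem_basicOpen_top]
    let := X.presheaf.algebra_section_stalk (⟨x, trivial⟩ : (⊤ : X.Opens))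
    have := hU.isLocalization_stalk ⟨x, trivial⟩
    have h1 := IsLocalization.AtPrime.isUnit_to_map_iff (X.presheaf.stalk x)
      (hU.primeIdealOf ⟨x, trivial⟩).asIdeal s
    have h2 : algebraMap Γ(X, ⊤) (X.presheaf.stalk x) s = X.presheaf.germ ⊤ x trivial s := rfl
    rw [← h2, h1]
    exact (not_not (a := s ∈ _)).symm
  · let := X.presheaf.algebra_section_stalk (⟨x, trivial⟩ : (⊤ : X.Opens))
    have := hU.isLocalization_stalk ⟨x, trivial⟩
    exact IsLocalization.AtPrime.ringKrullDim_eq_height _ (X.presheaf.stalk x)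

theorem isIso_appTop {X Y : Scheme.{u}} (f : X ⟶ Y) [IsIso f] : IsIso f.appTop :=
  inferInstanceAs (IsIso (f.app ⊤))

theorem bijective_eval₂Hom (S : Scheme.{u}) [IsAffine S] (ι : Type u) :
    Function.Bijective (eval₂Hom ((𝔸(ι; S) ↘ S).appTop).hom (AffineSpace.coord S) :
      MvPolynomial ι Γ(S, ⊤) →+* Γ(𝔸(ι; S), ⊤)) := by
  have h1 := AffineSpace.isoOfIsAffine_hom_appTop (n := ι) (S := S)
  have h2 : IsIso (CommRingCat.ofHom (eval₂Hom ((𝔸(ι; S) ↘ S).appTop).hom (AffineSpace.coord S))) := by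
    have h3 := isIso_appTop (AffineSpace.isoOfIsAffine ι S).hom
    rw [← Iso.inv_comp_eq] at h1
    rw [← h1]
    exact IsIso.comp_isIso
  exact ConcreteCategory.bijective_of_isIso
    (CommRingCat.ofHom (eval₂Hom ((𝔸(ι; S) ↘ S).appTop).hom (AffineSpace.coord S)))

theorem bijective_eval₂Hom_spec (R : CommRingCat.{u}) (ι : Type u) :
    Function.Bijective (eval₂Hom ((Scheme.ΓSpecIso R).inv ≫ (𝔸(ι; Spec R) ↘ Spec R).appTop).hom
      (AffineSpace.coord (Spec R)) : MvPolynomial ι R →+* Γ(𝔸(ι; Spec R), ⊤)) := by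
  have h1 := AffineSpace.SpecIso_hom_appTop (n := ι) R
  have h2 : IsIso (CommRingCat.ofHom (eval₂Hom ((Scheme.ΓSpecIso R).inv ≫
      (𝔸(ι; Spec R) ↘ Spec R).appTop).hom (AffineSpace.coord (Spec R)))) := by
    have h3 := isIso_appTop (AffineSpace.SpecIso ι R).hom
    rw [← Iso.inv_comp_eq] at h1
    rw [← h1]
    exact IsIso.comp_isIso
  exact ConcreteCategory.bijective_of_isIso
    (CommRingCat.ofHom (eval₂Hom ((Scheme.ΓSpecIso R).inv ≫
      (𝔸(ι; Spec R) ↘ Spec R).appTop).hom (AffineSpace.coord (Spec R))))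

theorem not_mem_basicOpen_appTop {X Y : Scheme.{u}} (f : X ⟶ Y) (x : X) (s : Γ(Y, ⊤))
    (h : f x ∉ Y.basicOpen s) : x ∉ X.basicOpen (f.appTop s) := by
  intro h'
  rw [← Scheme.preimage_basicOpen_top] at h'
  exact h h'

end Affine

section General

variable {k : Type u} [CommRing k] [IsDomain k] {m : ℕ} {ι : Type u} {S : Scheme.{u}} [IsAffine S]
  (c : k →+* Γ(S, ⊤)) (t : ULift.{u} (Fin m) → Γ(S, ⊤)) (hc : Function.Bijective (eval₂Hom c t))

include hc in
theorem dim1 (x : S) (hx : ∀ i, x ∉ S.basicOpen (t i)) :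
    (m : WithBot ℕ∞) ≤ ringKrullDim (S.presheaf.stalk x) := by
  obtain ⟨p, hp, hmem, hdim⟩ := exists_prime x
  rw [hdim]
  refine WithBot.coe_le_coe.2 (le_height_of_bijective' _ hc p fun i => ?_)
  rw [hmem, coe_eval₂Hom, eval₂_X]
  exact hx i

/-- `k[X][Y] → Γ(𝔸(ι; S))`. -/
noncomputable def bigHom (ι : Type u) : MvPolynomial ι (MvPolynomial (ULift.{u} (Fin m)) k) →+*
    Γ(𝔸(ι; S), ⊤) :=
  (eval₂Hom ((𝔸(ι; S) ↘ S).appTop).hom (AffineSpace.coord S)).comp
    (MvPolynomial.map (eval₂Hom c t))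

omit [IsDomain k] in
include hc in
theorem bigHom_bijective : Function.Bijective (bigHom c t ι) := by
  unfold bigHom
  rw [RingHom.coe_comp]
  exact Function.Bijective.comp (bijective_eval₂Hom S ι)
    ⟨MvPolynomial.map_injective _ hc.1, MvPolynomial.map_surjective _ hc.2⟩

omit [IsDomain k] [IsAffine S] in
theorem bigHom_C_X (i : ULift.{u} (Fin m)) : bigHom c t ι (C (X i)) = (𝔸(ι; S) ↘ S).appTop (t i) := by
  rw [bigHom, RingHom.comp_apply, MvPolynomial.map_C, coe_eval₂Hom, eval₂_C, coe_eval₂Hom, eval₂_X]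

omit [IsDomain k] [IsAffine S] in
theorem bigHom_map_C (d : MvPolynomial ι k) : bigHom c t ι (MvPolynomial.map C d) =
    eval₂Hom (((𝔸(ι; S) ↘ S).appTop).hom.comp c) (AffineSpace.coord S) d := by
  have h : (bigHom c t ι).comp (MvPolynomial.map C) =
      eval₂Hom (((𝔸(ι; S) ↘ S).appTop).hom.comp c) (AffineSpace.coord S) := by
    refine MvPolynomial.ringHom_ext (fun a => ?_) fun i => ?_
    · rw [RingHom.comp_apply, bigHom, RingHom.comp_apply, MvPolynomial.map_C, MvPolynomial.map_C,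
        coe_eval₂Hom, eval₂_C, coe_eval₂Hom, eval₂_C, coe_eval₂Hom, eval₂_C]
      rfl
    · rw [RingHom.comp_apply, bigHom, RingHom.comp_apply, MvPolynomial.map_X, MvPolynomial.map_X,
        coe_eval₂Hom, eval₂_X, coe_eval₂Hom, eval₂_X]
  exact congrFun (congrArg DFunLike.coe h) d

include hc in
theorem dim1_pull (x : 𝔸(ι; S)) (hx : ∀ i, (𝔸(ι; S) ↘ S) x ∉ S.basicOpen (t i)) :
    (m : WithBot ℕ∞) ≤ ringKrullDim ((𝔸(ι; S)).presheaf.stalk x) := by
  obtain ⟨p, hp, hmem, hdim⟩ := exists_prime x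
  rw [hdim]
  refine WithBot.coe_le_coe.2 (le_height_of_bijective _ (bigHom_bijective c t hc) p fun i => ?_)
  rw [bigHom_C_X, hmem]
  exact not_mem_basicOpen_appTop _ _ _ (hx i)

include hc in
theorem dim2 (x : 𝔸(ι; S)) (hx : ∀ i, (𝔸(ι; S) ↘ S) x ∉ S.basicOpen (t i))
    (d : MvPolynomial ι k) (hd : d ≠ 0)
    (hdx : x ∉ (𝔸(ι; S)).basicOpen
      (eval₂Hom (((𝔸(ι; S) ↘ S).appTop).hom.comp c) (AffineSpace.coord S) d)) :
    ((m + 1 : ℕ) : WithBot ℕ∞) ≤ ringKrullDim ((𝔸(ι; S)).presheaf.stalk x) := by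
  obtain ⟨p, hp, hmem, hdim⟩ := exists_prime x
  rw [hdim]
  refine WithBot.coe_le_coe.2 (succ_le_height_of_bijective _ (bigHom_bijective c t hc) p
    (fun i => ?_) d hd ?_)
  · rw [bigHom_C_X, hmem]
    exact not_mem_basicOpen_appTop _ _ _ (hx i)
  · rw [bigHom_map_C, hmem]
    exact hdx

end General

section Main

open Groth.Agent.Sga4h.H13

variable {k : Type u} [Field k] {m : ℕ} {ι : Type u}

/-- The constants `k → Γ(Y, 𝒪)` of a scheme over `Spec k`. -/
noncomputable def cst {Y : Scheme.{u}} (y : Y ⟶ Spec (CommRingCat.of k)) : k →+* Γ(Y, ⊤) :=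
  ((Scheme.ΓSpecIso (CommRingCat.of k)).inv ≫ y.appTop).hom

theorem cst_comp {Y Z : Scheme.{u}} (y : Y ⟶ Spec (CommRingCat.of k)) (f : Z ⟶ Y) :
    cst (f ≫ y) = f.appTop.hom.comp (cst y) := rfl

/-- (D1). -/
theorem le_ringKrullDim_stalk (x : Aff k m)
    (hx : ∀ i : ULift.{u} (Fin m), x ∉
      (Aff k m).basicOpen (AffineSpace.coord (Spec (CommRingCat.of k)) i)) :
    (m : WithBot ℕ∞) ≤ ringKrullDim ((Aff k m).presheaf.stalk x) :=
  dim1 (cst (Aff.str k m)) (AffineSpace.coord (Spec (CommRingCat.of k)))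
    (bijective_eval₂Hom_spec (CommRingCat.of k) (ULift.{u} (Fin m))) x hx

/-- (D1), for an arbitrary affine space over `𝔸^m`. -/
theorem le_ringKrullDim_stalk_pull (x : 𝔸(ι; Aff k m))
    (hx : ∀ i : ULift.{u} (Fin m), (𝔸(ι; Aff k m) ↘ Aff k m) x ∉
      (Aff k m).basicOpen (AffineSpace.coord (Spec (CommRingCat.of k)) i)) :
    (m : WithBot ℕ∞) ≤ ringKrullDim ((𝔸(ι; Aff k m)).presheaf.stalk x) :=
  dim1_pull (cst (Aff.str k m)) (AffineSpace.coord (Spec (CommRingCat.of k)))
    (bijective_eval₂Hom_spec (CommRingCat.of k) (ULift.{u} (Fin m))) x hx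

/-- (D2). -/
theorem succ_le_ringKrullDim_stalk (x : 𝔸(ι; Aff k m))
    (hx : ∀ i : ULift.{u} (Fin m), (𝔸(ι; Aff k m) ↘ Aff k m) x ∉
      (Aff k m).basicOpen (AffineSpace.coord (Spec (CommRingCat.of k)) i))
    (d : MvPolynomial ι k) (hd : d ≠ 0)
    (hdx : x ∉ (𝔸(ι; Aff k m)).basicOpen
      (eval₂Hom (cst ((𝔸(ι; Aff k m) ↘ Aff k m) ≫ Aff.str k m)) (AffineSpace.coord (Aff k m)) d)) :
    ((m + 1 : ℕ) : WithBot ℕ∞) ≤ ringKrullDim ((𝔸(ι; Aff k m)).presheaf.stalk x) :=
  dim2 (cst (Aff.str k m)) (AffineSpace.coord (Spec (CommRingCat.of k)))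
    (bijective_eval₂Hom_spec (CommRingCat.of k) (ULift.{u} (Fin m))) x hx d hd hdx

end Main

end Groth.Agent.Vancyc.H677.Dim
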