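import Mathlib.RingTheory.Ideal.KrullsHeightTheorem
import Mathlib.LinearAlgebra.Matrix.Determinant.Basic

/-!
# Change of a minimal system of equations

(D3) of the S4009 plan (helper327, message 4639): if `(a_i)` and `(b_i)`, `i < m`, generate the same ideal,
of height `≥ m`, the matrix of a change is invertible at every prime containing the ideal.
-/

set_option autoImplicit false

namespace Groth.Agent.Vancyc.H677.Dim

/-- If one of `m` elements is, locally at `p`, a combination of the others, the ideal they generate is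
contained in a prime of height `< m`. -/
theorem exists_prime_height_lt {A : Type*} [CommRing A] [IsNoetherianRing A] {m : ℕ} (a : Fin m → A)
    (p : Ideal A) [p.IsPrime] (hp : ∀ i, a i ∈ p) (c : Fin m → A) (hc : ∑ j, c j * a j = 0)
    (j : Fin m) (hj : c j ∉ p) :
    ∃ q : Ideal A, q.IsPrime ∧ (∀ i, a i ∈ q) ∧ q.height < m := by
  classical
  let L := Localization.AtPrime p
  let f : A →+* L := algebraMap A L
  let I : Ideal L := Ideal.span (((Finset.univ.erase j).image fun i => f (a i) : Finset L) : Set L)
  have hu : IsUnit (f (c j)) :=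
    (IsLocalization.AtPrime.isUnit_to_map_iff L p (c j)).2 hj
  have hmem : ∀ i, f (a i) ∈ I := by
    intro i
    by_cases h : i = j
    · subst h
      have h1 : f (c i) * f (a i) = - ∑ l ∈ Finset.univ.erase i, f (c l) * f (a l) := by
        have h2 := congrArg f hc
        rw [map_zero, map_sum, ← Finset.add_sum_erase _ _ (Finset.mem_univ i), map_mul] at h2
        rw [eq_neg_iff_add_eq_zero, ← h2]
        congr 1
        exact Finset.sum_congr rfl fun l _ => (map_mul f _ _).symm
      have h3 : f (c i) * f (a i) ∈ I := by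
        rw [h1]
        refine Submodule.neg_mem _ (Submodule.sum_mem _ fun l hl => ?_)
        refine Ideal.mul_mem_left _ _ (Ideal.subset_span ?_)
        exact Finset.mem_coe.2 (Finset.mem_image_of_mem _ hl)
      exact (Ideal.unit_mul_mem_iff_mem I hu).1 h3
    · refine Ideal.subset_span (Finset.mem_coe.2 ?_)
      exact Finset.mem_image_of_mem _ (Finset.mem_erase.2 ⟨h, Finset.mem_univ _⟩)
  have hI : I ≠ ⊤ := by
    intro h
    have h1 : I ≤ IsLocalRing.maximalIdeal L := by
      rw [Ideal.span_le]
      intro x hx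
      obtain ⟨i, -, rfl⟩ := Finset.mem_image.1 (Finset.mem_coe.1 hx)
      change f (a i) ∈ IsLocalRing.maximalIdeal L
      rw [IsLocalization.AtPrime.to_map_mem_maximal_iff L p]
      exact hp i
    rw [h, top_le_iff] at h1
    exact (IsLocalRing.maximalIdeal.isMaximal L).ne_top h1
  obtain ⟨Q, hQ⟩ := Ideal.nonempty_minimalPrimes hI
  have hQp : Q.IsPrime := hQ.isPrime
  refine ⟨Q.under A, inferInstance, fun i => hQ.le (hmem i), ?_⟩
  rw [IsLocalization.height_under p.primeCompl Q]
  have h1 : Q.height ≤ ((Finset.univ.erase j).image fun i => f (a i)).card :=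
    Ideal.height_le_card_of_mem_minimalPrimes_span_finset hQ
  refine lt_of_le_of_lt h1 ?_
  have h2 : ((Finset.univ.erase j).image fun i => f (a i)).card < m := by
    refine lt_of_le_of_lt Finset.card_image_le ?_
    rw [Finset.card_erase_of_mem (Finset.mem_univ _), Finset.card_univ, Fintype.card_fin]
    have := j.2
    omega
  exact_mod_cast h2

/-- (D3). -/
theorem det_notMem {A : Type*} [CommRing A] [IsNoetherianRing A] {m : ℕ} (a b : Fin m → A)
    (P Q : Matrix (Fin m) (Fin m) A) (hb : b = P.mulVec a) (ha : a = Q.mulVec b)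
    (p : Ideal A) [p.IsPrime] (hp : ∀ i, a i ∈ p)
    (hh : ∀ q : Ideal A, q.IsPrime → (∀ i, a i ∈ q) → (m : ℕ∞) ≤ q.height) : P.det ∉ p := by
  classical
  have h1 : (1 - Q * P).mulVec a = 0 := by
    rw [Matrix.sub_mulVec, Matrix.one_mulVec, ← Matrix.mulVec_mulVec, ← hb, ← ha, sub_self]
  have h2 : ∀ i j, (1 - Q * P) i j ∈ p := by
    intro i j
    by_contra h
    obtain ⟨q, hq, hqa, hlt⟩ := exists_prime_height_lt a p hp ((1 - Q * P) i) (congrFun h1 i) j h
    exact absurd (hh q hq hqa) (not_le.2 hlt)
  have h3 : (Q * P).map (Ideal.Quotient.mk p) = 1 := by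
    ext i j
    rw [Matrix.map_apply]
    have h4 := h2 i j
    rw [← Ideal.Quotient.eq_zero_iff_mem, Matrix.sub_apply, map_sub, sub_eq_zero] at h4
    rw [← h4, Matrix.one_apply, Matrix.one_apply]
    split_ifs <;> simp
  have h5 : Ideal.Quotient.mk p ((Q * P).det) = 1 := by
    rw [RingHom.map_det, RingHom.mapMatrix_apply, h3, Matrix.det_one]
  intro h6
  rw [Matrix.det_mul, map_mul, Ideal.Quotient.eq_zero_iff_mem.2 h6, mul_zero] at h5
  exact zero_ne_one h5

end Groth.Agent.Vancyc.H677.Dim
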