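import Mathlib.RingTheory.AdicCompletion.Noetherian
import Mathlib.RingTheory.AdicCompletion.Algebra
import Mathlib.RingTheory.Nakayama
import Mathlib.LinearAlgebra.FiniteDimensional.Lemmas
import Mathlib.RingTheory.LocalRing.ResidueField.Basic
import Mathlib.RingTheory.Artinian.Module

/-!
# Local algebras over a field with finite dimensional completion

If `A` is a local algebra over a field `F` with finitely generated maximal ideal and the completion of `A`
is finite dimensional over `F`, then `A` is finite dimensional, of the same dimension.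
-/

set_option autoImplicit false
universe u v

namespace Groth.Agent.Vancyc.H677.AdicFin

open IsLocalRing

variable (F : Type u) (A : Type v) [Field F] [CommRing A] [IsLocalRing A] [Algebra F A]

/-- evaluation as a linear map over the field. -/
noncomputable def evalF (n : ℕ) :
    AdicCompletion (maximalIdeal A) A →ₗ[F] A ⧸ (maximalIdeal A) ^ n where
  toFun := AdicCompletion.evalₐ (maximalIdeal A) n
  map_add' := map_add _
  map_smul' := fun c x => by
    rw [RingHom.id_apply, Algebra.smul_def, map_mul, AdicCompletion.algebraMap_apply,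
      AdicCompletion.evalₐ_of, Algebra.smul_def]
    rfl

theorem evalF_surjective (n : ℕ) : Function.Surjective (evalF F A n) :=
  AdicCompletion.surjective_evalₐ (maximalIdeal A) n

theorem finite_quot [Module.Finite F (AdicCompletion (maximalIdeal A) A)] (n : ℕ) :
    Module.Finite F (A ⧸ (maximalIdeal A) ^ n) :=
  Module.Finite.of_surjective (evalF F A n) (evalF_surjective F A n)

theorem finrank_quot_le [Module.Finite F (AdicCompletion (maximalIdeal A) A)] (n : ℕ) :
    Module.finrank F (A ⧸ (maximalIdeal A) ^ n) ≤
      Module.finrank F (AdicCompletion (maximalIdeal A) A) :=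
  LinearMap.finrank_le_finrank_of_surjective (evalF_surjective F A n)

/-- the transition map. -/
noncomputable def trans (n : ℕ) :
    (A ⧸ (maximalIdeal A) ^ (n + 1)) →ₗ[F] A ⧸ (maximalIdeal A) ^ n :=
  (Ideal.Quotient.factorₐ F (Ideal.pow_le_pow_right (Nat.le_succ n))).toLinearMap

theorem trans_surjective (n : ℕ) : Function.Surjective (trans F A n) :=
  Ideal.Quotient.factor_surjective (Ideal.pow_le_pow_right (Nat.le_succ n))

theorem exists_pow_eq [Module.Finite F (AdicCompletion (maximalIdeal A) A)] :
    ∃ n : ℕ, (maximalIdeal A) ^ n = (maximalIdeal A) ^ (n + 1) := by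
  by_contra! h
  have key : ∀ n : ℕ, n ≤ Module.finrank F (A ⧸ (maximalIdeal A) ^ n) := by
    intro n
    induction n with
    | zero => exact Nat.zero_le _
    | succ n ih =>
      have h1 := finite_quot F A (n + 1)
      have h2 := LinearMap.finrank_range_add_finrank_ker (trans F A n)
      rw [LinearMap.range_eq_top.mpr (trans_surjective F A n), finrank_top] at h2
      have h3 : 0 < Module.finrank F (LinearMap.ker (trans F A n)) := by
        have hlt : (maximalIdeal A) ^ (n + 1) < (maximalIdeal A) ^ n :=
          lt_of_le_of_ne (Ideal.pow_le_pow_right (Nat.le_succ n)) (h n).symm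
        obtain ⟨x, hx, hx'⟩ := SetLike.exists_of_lt hlt
        rw [Module.finrank_pos_iff_exists_ne_zero]
        refine ⟨⟨Ideal.Quotient.mk _ x, ?_⟩, ?_⟩
        · rw [LinearMap.mem_ker]
          change Ideal.Quotient.mk _ x = 0
          rwa [Ideal.Quotient.eq_zero_iff_mem]
        · intro h0
          apply hx'
          rw [← Ideal.Quotient.eq_zero_iff_mem]
          exact congrArg Subtype.val h0
      omega
  have h1 := key (Module.finrank F (AdicCompletion (maximalIdeal A) A) + 1)
  have h2 := finrank_quot_le F A (Module.finrank F (AdicCompletion (maximalIdeal A) A) + 1)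
  omega

theorem exists_pow_eq_bot [Module.Finite F (AdicCompletion (maximalIdeal A) A)]
    (hfg : (maximalIdeal A).FG) : ∃ n : ℕ, (maximalIdeal A) ^ n = ⊥ := by
  obtain ⟨n, hn⟩ := exists_pow_eq F A
  refine ⟨n, ?_⟩
  apply Submodule.eq_bot_of_le_smul_of_le_jacobson_bot (maximalIdeal A) _ (Ideal.FG.pow hfg)
  · rw [smul_eq_mul, ← pow_succ']
    exact hn.le
  · exact maximalIdeal_le_jacobson _

/-- `A` is finite over `F` if its completion is. -/
theorem finite_of_finite_completion [Module.Finite F (AdicCompletion (maximalIdeal A) A)]
    (hfg : (maximalIdeal A).FG) : Module.Finite F A := by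
  obtain ⟨n, hn⟩ := exists_pow_eq_bot F A hfg
  have h1 := finite_quot F A n
  have e : (A ⧸ (maximalIdeal A) ^ n) ≃ₗ[F] A :=
    ((Ideal.quotientEquivAlgOfEq F hn).trans (AlgEquiv.quotientBot F A)).toLinearEquiv
  exact Module.Finite.equiv e

theorem finrank_completion [Module.Finite F (AdicCompletion (maximalIdeal A) A)]
    (hfg : (maximalIdeal A).FG) :
    Module.finrank F (AdicCompletion (maximalIdeal A) A) = Module.finrank F A := by
  have h1 := finite_of_finite_completion F A hfg
  have h2 : IsArtinianRing A := IsArtinianRing.of_finite F A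
  let e : A ≃ₗ[F] AdicCompletion (maximalIdeal A) A :=
    { (AdicCompletion.ofAlgEquiv (maximalIdeal A) : A ≃ₐ[A] AdicCompletion (maximalIdeal A) A).toRingEquiv with
      map_smul' := fun c x => by
        change AdicCompletion.of (maximalIdeal A) A (c • x) = c • AdicCompletion.of (maximalIdeal A) A x
        rw [Algebra.smul_def, Algebra.smul_def, AdicCompletion.algebraMap_apply]
        exact map_mul (AdicCompletion.ofAlgEquiv (maximalIdeal A) : A ≃ₐ[A] AdicCompletion (maximalIdeal A) A) _ _ }
  exact e.finrank_eq.symm

end Groth.Agent.Vancyc.H677.AdicFin
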