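import Groth.Prelude.Def_VanCyc
import Mathlib.AlgebraicGeometry.Stalk
import Mathlib.AlgebraicGeometry.GammaSpecAdjunction
import Mathlib.AlgebraicGeometry.Morphisms.ClosedImmersion

/-!
# Local rings of the special fibre of a scheme over a local ring

`strHom g y : A →+* 𝒪_{Y,y}` for `g : Y ⟶ Spec A`; for `f : X ⟶ Spec R` (`R` local) and a point `x` of the special
fibre, `𝒪_{X, i x} → 𝒪_{X_s, x}` is surjective with kernel generated by the maximal ideal of `R`.
-/

set_option autoImplicit false
universe u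
open CategoryTheory CategoryTheory.Limits AlgebraicGeometry

namespace Groth.Agent.Vancyc.H677.FibStalk

open IsLocalRing VanCyc

section Str

variable {A : Type u} [CommRing A] {Y : Scheme.{u}} (g : Y ⟶ Spec (CommRingCat.of A))

/-- The structure map `A → 𝒪_{Y,y}` of the local ring at a point of a scheme over `Spec A`. -/
noncomputable def strHom (y : Y) : A →+* Y.presheaf.stalk y :=
  (Y.presheaf.germ ⊤ y trivial).hom.comp
    ((g.appTop).hom.comp (Scheme.ΓSpecIso (CommRingCat.of A)).inv.hom)

theorem ofHom_strHom (y : Y) : CommRingCat.ofHom (strHom g y) =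
    (Scheme.ΓSpecIso (CommRingCat.of A)).inv ≫ g.appTop ≫ Y.presheaf.germ ⊤ y trivial := rfl

theorem fromSpecStalk_comp (y : Y) :
    Y.fromSpecStalk y ≫ g = Spec.map (CommRingCat.ofHom (strHom g y)) := by
  have h1 : Y.toSpecΓ ≫ Spec.map g.appTop ≫ Spec.map (Scheme.ΓSpecIso (CommRingCat.of A)).inv = g := by
    rw [← Scheme.toSpecΓ_naturality_assoc, toSpecΓ_SpecMap_ΓSpecIso_inv, Category.comp_id]
  rw [ofHom_strHom, Spec.map_comp, Spec.map_comp, ← Scheme.fromSpecStalk_toSpecΓ, Category.assoc,
    Category.assoc, h1]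

theorem strHom_stalkMap {Z : Scheme.{u}} (i : Z ⟶ Y) (z : Z) :
    (i.stalkMap z).hom.comp (strHom g (i z)) = strHom (i ≫ g) z := by
  have h1 : CommRingCat.ofHom ((i.stalkMap z).hom.comp (strHom g (i z))) =
      CommRingCat.ofHom (strHom (i ≫ g) z) := by
    rw [CommRingCat.ofHom_comp, ofHom_strHom, ofHom_strHom]
    simp [Scheme.Hom.germ_stalkMap]
  exact congrArg CommRingCat.Hom.hom h1

theorem strHom_comp_specMap {A' : Type u} [CommRing A'] (ψ : A' →+* A) (y : Y) :
    strHom (g ≫ Spec.map (CommRingCat.ofHom ψ)) y = (strHom g y).comp ψ := by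
  have h1 : CommRingCat.ofHom (strHom (g ≫ Spec.map (CommRingCat.ofHom ψ)) y) =
      CommRingCat.ofHom ((strHom g y).comp ψ) := by
    rw [CommRingCat.ofHom_comp, ofHom_strHom, ofHom_strHom]
    simp
  exact congrArg CommRingCat.Hom.hom h1

end Str

theorem strHom_eq_resHom {k : Type u} [Field k] {Y : Scheme.{u}} (g : Y ⟶ Spec (CommRingCat.of k))
    (y : Y) : strHom g y = resHom g y := rfl

section Fib

variable (R : Type u) [CommRing R] [IsLocalRing R] {X : Scheme.{u}} (f : X ⟶ Spec (CommRingCat.of R))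

instance : IsClosedImmersion (toSk R) :=
  IsClosedImmersion.spec_of_surjective _ IsLocalRing.residue_surjective

instance : IsClosedImmersion (icl R f) := inferInstance

theorem stalkMap_icl_surjective (x : spFib R f) : Function.Surjective ((icl R f).stalkMap x).hom :=
  (icl R f).stalkMap_surjective x

/-- compatibility with the structure maps. -/
theorem stalkMap_icl_strHom (x : spFib R f) (r : R) :
    ((icl R f).stalkMap x).hom (strHom f (icl R f x) r) =
      resHom (spStr R f) x (IsLocalRing.residue R r) := by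
  have h1 := congrArg (fun φ => φ r) (strHom_stalkMap f (icl R f) x)
  have h2 : strHom (icl R f ≫ f) x = (strHom (spStr R f) x).comp (IsLocalRing.residue R) := by
    rw [← strHom_comp_specMap]
    congr 1
    exact pullback.condition
  refine Eq.trans h1 ?_
  exact congrArg (fun φ => φ r) h2

/-- the ideal generated by the maximal ideal of `R`. -/
noncomputable abbrev fibIdeal (y : X) : Ideal (X.presheaf.stalk y) :=
  (maximalIdeal R).map (strHom f y)

theorem fibIdeal_le_ker (x : spFib R f) :
    fibIdeal R f (icl R f x) ≤ RingHom.ker ((icl R f).stalkMap x).hom := by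
  rw [Ideal.map_le_iff_le_comap]
  intro r hr
  rw [Ideal.mem_comap, RingHom.mem_ker]
  refine (stalkMap_icl_strHom R f x r).trans ?_
  rw [(residue_eq_zero_iff r).mpr hr, map_zero]

theorem germ_stalkClosedPointTo_congr {R : CommRingCat.{u}} [IsLocalRing R] {g g' : Spec R ⟶ X}
    (e : g = g') (U : X.Opens) (hU : g (closedPoint R) ∈ U) (hU' : g' (closedPoint R) ∈ U) :
    X.presheaf.germ U _ hU ≫ Scheme.stalkClosedPointTo g =
      X.presheaf.germ U _ hU' ≫ Scheme.stalkClosedPointTo g' := by
  subst e; rfl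

set_option backward.isDefEq.respectTransparency false in
theorem ker_le_fibIdeal (x : spFib R f) :
    RingHom.ker ((icl R f).stalkMap x).hom ≤ fibIdeal R f (icl R f x) := by
  let y : X := icl R f x
  have hle : fibIdeal R f y ≤ maximalIdeal (X.presheaf.stalk y) :=
    (fibIdeal_le_ker R f x).trans (IsLocalRing.le_maximalIdeal (RingHom.ker_ne_top _))
  have hne : fibIdeal R f y ≠ ⊤ := fun h =>
    (maximalIdeal.isMaximal (X.presheaf.stalk y)).ne_top (top_le_iff.mp (h ▸ hle))
  have hnt : Nontrivial (X.presheaf.stalk y ⧸ fibIdeal R f y) := Ideal.Quotient.nontrivial_iff.mpr hne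
  have hloc : IsLocalRing (X.presheaf.stalk y ⧸ fibIdeal R f y) :=
    .of_surjective' (Ideal.Quotient.mk _) Ideal.Quotient.mk_surjective
  let C : CommRingCat.{u} := .of (X.presheaf.stalk y ⧸ fibIdeal R f y)
  have : IsLocalRing C := hloc
  let q : X.presheaf.stalk y ⟶ C := CommRingCat.ofHom (Ideal.Quotient.mk (fibIdeal R f y))
  let r : CommRingCat.of (ResidueField R) ⟶ C := CommRingCat.ofHom
    (Ideal.Quotient.lift _ ((Ideal.Quotient.mk (fibIdeal R f y)).comp (strHom f y)) (by
      intro a ha
      simp only [RingHom.comp_apply]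
      rw [Ideal.Quotient.eq_zero_iff_mem]
      exact Ideal.mem_map_of_mem _ ha))
  have hr : CommRingCat.ofHom (residue R) ≫ r = CommRingCat.ofHom (strHom f y) ≫ q := by
    ext a
    rfl
  let φ : Spec C ⟶ spFib R f := pullback.lift (Spec.map q ≫ X.fromSpecStalk y) (Spec.map r) (by
    rw [Category.assoc, fromSpecStalk_comp, ← Spec.map_comp, ← Spec.map_comp]
    exact congrArg Spec.map hr.symm)
  have hφ : φ ≫ icl R f = Spec.map q ≫ X.fromSpecStalk y := pullback.lift_fst _ _ _
  have hqloc : IsLocalHom q.hom := Function.Surjective.isLocalHom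
    (f := Ideal.Quotient.mk (fibIdeal R f y)) Ideal.Quotient.mk_surjective
  have hc : icl R f (φ (closedPoint C)) = y := by
    rw [← Scheme.Hom.comp_apply, hφ, Scheme.Hom.comp_apply, Spec_closedPoint,
      Scheme.fromSpecStalk_closedPoint]
  have hz : x = φ (closedPoint C) := (icl R f).isEmbedding.injective hc.symm
  have key : q = (icl R f).stalkMap x ≫
      (((spFib R f).presheaf.stalkCongr (.of_eq hz)).hom ≫ Scheme.stalkClosedPointTo φ) := by
    rw [Scheme.Hom.stalkMap_congr_point_assoc _ _ _ hz, ← Scheme.stalkClosedPointTo_comp]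
    refine TopCat.Presheaf.stalk_hom_ext _ fun U hxU ↦ ?_
    simp only [TopCat.Presheaf.stalkCongr_hom, TopCat.Presheaf.germ_stalkSpecializes_assoc]
    have hU : (Spec.map q ≫ X.fromSpecStalk y) (closedPoint C) ∈ U := by
      rw [← hφ]
      exact hc.symm ▸ hxU
    have h3 := Scheme.germ_stalkClosedPointTo_Spec_fromSpecStalk q U hU
    rw [← h3]
    exact germ_stalkClosedPointTo_congr hφ.symm U _ _
  intro b hb
  have hb' : q b = 0 := by
    have h5 : ((icl R f).stalkMap x).hom b = 0 := hb
    have h6 : q.hom b = (((spFib R f).presheaf.stalkCongr (.of_eq hz)).hom ≫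
        Scheme.stalkClosedPointTo φ).hom (((icl R f).stalkMap x).hom b) := congr(($key).hom b)
    exact (h6.trans (congrArg _ h5)).trans (map_zero _)
  exact Ideal.Quotient.eq_zero_iff_mem.mp hb'

/-- the kernel of `𝒪_{X, i x} → 𝒪_{X_s, x}`. -/
theorem ker_stalkMap_icl (x : spFib R f) :
    RingHom.ker ((icl R f).stalkMap x).hom = fibIdeal R f (icl R f x) :=
  le_antisymm (ker_le_fibIdeal R f x) (fibIdeal_le_ker R f x)

end Fib

end Groth.Agent.Vancyc.H677.FibStalk
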