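import Groth.Agent.Vancyc.H677.LocRing
import Groth.Agent.Ega4late.H526.SmoothQf
import Mathlib.AlgebraicGeometry.Morphisms.Smooth
import Mathlib.RingTheory.Localization.BaseChange
import Mathlib.RingTheory.Etale.Field
import Mathlib.RingTheory.Unramified.Field

/-!
# The generic fibre of a finite local ring of a scheme with smooth generic fibre is étale
-/

set_option autoImplicit false
universe u
open CategoryTheory CategoryTheory.Limits AlgebraicGeometry

open scoped TensorProduct

namespace Groth.Agent.Vancyc.H677.GenEtale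

open IsLocalRing VanCyc FibStalk LocRing

section Alg

/-- finite formally smooth algebras over a field are étale. -/
theorem etale_of_finite (K C : Type u) [Field K] [CommRing C] [Algebra K C] [Module.Finite K C]
    [Algebra.FormallySmooth K C] : Algebra.Etale K C := by
  have hfp : Algebra.FinitePresentation K C := Algebra.FinitePresentation.of_finiteType.mp inferInstance
  rw [← Algebra.etaleLocus_eq_univ_iff_etale, Set.eq_univ_iff_forall]
  intro q
  rw [Algebra.mem_etaleLocus_iff]
  have hqf : Algebra.QuasiFiniteAt K q.asIdeal := inferInstance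
  have hsm : Algebra.IsSmoothAt K q.asIdeal := inferInstance
  exact Groth.Agent.Ega4late.H526.SmoothQf.isEtaleAt_of_isSmoothAt_of_quasiFiniteAt K C q.asIdeal

/-- base change and localization. -/
theorem formallySmooth_tensor_localization (R K S B : Type u) [CommRing R] [CommRing K] [CommRing S]
    [CommRing B] [Algebra R K] [Algebra R S] [Algebra S B] [Algebra R B] [IsScalarTower R S B]
    (M : Submonoid S) [IsLocalization M B] [Algebra.FormallySmooth K (K ⊗[R] S)] :
    Algebra.FormallySmooth K (K ⊗[R] B) := by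
  let g : K ⊗[R] S →ₐ[K] K ⊗[R] B := Algebra.TensorProduct.map (AlgHom.id K K) (IsScalarTower.toAlgHom R S B)
  let _ : Algebra (K ⊗[R] S) (K ⊗[R] B) := g.toRingHom.toAlgebra
  have : IsScalarTower K (K ⊗[R] S) (K ⊗[R] B) := IsScalarTower.of_algebraMap_eq' g.comp_algebraMap.symm
  have h1 : IsLocalization (M.map (Algebra.TensorProduct.includeRight (R := R) (A := K) (B := S)))
      (K ⊗[R] B) := by
    refine IsLocalization.tensorProduct_tensorProduct_right R K M B ?_
    ext s
    change g ((1 : K) ⊗ₜ s) = (1 : K) ⊗ₜ (algebraMap S B s)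
    rw [Algebra.TensorProduct.map_tmul]
    rfl
  have h2 : Algebra.FormallySmooth (K ⊗[R] S) (K ⊗[R] B) := Algebra.FormallySmooth.of_isLocalization
    (M.map (Algebra.TensorProduct.includeRight (R := R) (A := K) (B := S)))
  exact Algebra.FormallySmooth.comp K (K ⊗[R] S) (K ⊗[R] B)

end Alg

section Geom

/-- smoothness of the base change of an affine open. -/
theorem smooth_tensor {R K : Type u} [CommRing R] [CommRing K] [Algebra R K]
    {X : Scheme.{u}} (f : X ⟶ Spec (CommRingCat.of R)) (V : X.Opens)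
    (hV : Smooth (pullback.snd (V.ι ≫ f) (toS R K))) (U : X.Opens) (hU : IsAffineOpen U) (hUV : U ≤ V) :
    letI := (strAff f U).toAlgebra
    Algebra.FormallySmooth K (K ⊗[R] Γ(X, U)) := by
  let _ := (strAff f U).toAlgebra
  have h0 : hU.fromSpec ≫ f = Spec.map (CommRingCat.ofHom (strAff f U)) := by
    have h := IsAffineOpen.SpecMap_appLE_fromSpec f (isAffineOpen_top _) hU le_top
    rw [← h, IsAffineOpen.fromSpec_top, Scheme.isoSpec_Spec_inv, ← Spec.map_comp]
    rfl
  let j : Spec Γ(X, U) ⟶ V := IsOpenImmersion.lift V.ι hU.fromSpec (by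
    rw [hU.range_fromSpec, Scheme.Opens.range_ι]
    exact hUV)
  have hj : j ≫ V.ι = hU.fromSpec := IsOpenImmersion.lift_fac _ _ _
  have hjo : IsOpenImmersion j := by
    have : IsOpenImmersion (j ≫ V.ι) := hj ▸ inferInstance
    exact IsOpenImmersion.of_comp j V.ι
  have h1 : Smooth (pullback.snd (j ≫ (V.ι ≫ f)) (toS R K)) := by
    rw [← pullbackRightPullbackFstIso_inv_snd_snd]
    infer_instance
  have h2 : j ≫ (V.ι ≫ f) = toS R Γ(X, U) := by
    rw [← Category.assoc, hj, h0]
  rw [h2] at h1
  have h3 : Smooth (Spec.map (CommRingCat.ofHom (algebraMap K (K ⊗[R] Γ(X, U))))) := by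
    have h4 : Spec.map (CommRingCat.ofHom (algebraMap K (K ⊗[R] Γ(X, U)))) =
        (pullbackSpecIso R K Γ(X, U)).inv ≫ (pullbackSymmetry _ _).hom ≫
          pullback.snd (toS R Γ(X, U)) (toS R K) := by
      rw [pullbackSymmetry_hom_comp_snd]
      exact (pullbackSpecIso_inv_fst' R K Γ(X, U)).symm
    rw [h4]
    infer_instance
  have h5 := (HasRingHomProperty.Spec_iff (P := @Smooth)).mp h3
  exact (RingHom.smooth_algebraMap.mp h5).formallySmooth

/-- the generic fibre of a finite local ring is étale if the generic fibre is smooth nearby. -/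
theorem etale_generic {R K : Type u} [CommRing R] [Field K] [Algebra R K]
    {X : Scheme.{u}} (f : X ⟶ Spec (CommRingCat.of R)) (V : X.Opens)
    (hV : Smooth (pullback.snd (V.ι ≫ f) (toS R K))) (y : X) (hy : y ∈ V) (hfin : (strHom f y).Finite) :
    letI := (strHom f y).toAlgebra
    Algebra.Etale K (K ⊗[R] X.presheaf.stalk y) := by
  obtain ⟨U, hU, hyU, hUV⟩ := TopologicalSpace.Opens.isBasis_iff_nbhd.mp X.isBasis_affineOpens hy
  have hU' : IsAffineOpen U := hU
  let _ : Algebra R (X.presheaf.stalk y) := (strHom f y).toAlgebra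
  let _ : Algebra Γ(X, U) (X.presheaf.stalk y) := (X.presheaf.germ U y hyU).hom.toAlgebra
  let _ : Algebra R Γ(X, U) := (strAff f U).toAlgebra
  have htower : IsScalarTower R Γ(X, U) (X.presheaf.stalk y) :=
    IsScalarTower.of_algebraMap_eq' (germ_strAff f U y hyU).symm
  have h1 : IsLocalization.AtPrime (X.presheaf.stalk y) (hU'.primeIdealOf ⟨y, hyU⟩).asIdeal :=
    hU'.isLocalization_stalk ⟨y, hyU⟩
  have h2 : Algebra.FormallySmooth K (K ⊗[R] Γ(X, U)) := smooth_tensor f V hV U hU' hUV
  have h3 := formallySmooth_tensor_localization R K Γ(X, U) (X.presheaf.stalk y)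
    (hU'.primeIdealOf ⟨y, hyU⟩).asIdeal.primeCompl
  have h4 : Module.Finite R (X.presheaf.stalk y) := RingHom.finite_algebraMap.mp hfin
  exact etale_of_finite K (K ⊗[R] X.presheaf.stalk y)

end Geom

section Split

/-- a finite free algebra with étale generic fibre splits over a separably closed field. -/
theorem split (R K Ω B : Type u) [CommRing R] [Nontrivial R] [Field K] [Field Ω] [CommRing B] [Algebra R K]
    [Algebra K Ω]
    [Algebra R Ω] [IsScalarTower R K Ω] [IsSepClosed Ω] [Algebra R B] [Module.Finite R B] [Module.Free R B]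
    [Algebra.Etale K (K ⊗[R] B)] :
    Nonempty ((Ω ⊗[R] B) ≃ₐ[Ω] (PrimeSpectrum (Ω ⊗[R] B) → Ω)) ∧
      Nat.card (PrimeSpectrum (Ω ⊗[R] B)) = Module.finrank R B := by
  have h1 : Algebra.Etale Ω (Ω ⊗[K] (K ⊗[R] B)) := inferInstance
  let e : Ω ⊗[K] (K ⊗[R] B) ≃ₐ[Ω] Ω ⊗[R] B := Algebra.TensorProduct.cancelBaseChange R K Ω Ω B
  have h2 : Algebra.Etale Ω (Ω ⊗[R] B) := Algebra.Etale.of_equiv e
  have h3 : Algebra.EssFiniteType Ω (Ω ⊗[R] B) := inferInstance
  let E : (Ω ⊗[R] B) ≃ₐ[Ω] (PrimeSpectrum (Ω ⊗[R] B) → Ω) :=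
    Algebra.FormallyEtale.equivPiOfIsSepClosed Ω (Ω ⊗[R] B)
  refine ⟨⟨E⟩, ?_⟩
  have h4 : Module.finrank Ω (Ω ⊗[R] B) = Module.finrank R B := Module.finrank_baseChange
  have hart : IsArtinianRing (Ω ⊗[R] B) := IsArtinianRing.of_finite Ω _
  have hfin : Finite (PrimeSpectrum (Ω ⊗[R] B)) := inferInstance
  have := Fintype.ofFinite (PrimeSpectrum (Ω ⊗[R] B))
  rw [E.toLinearEquiv.finrank_eq, Module.finrank_fintype_fun_eq_card] at h4
  rw [Nat.card_eq_fintype_card, h4]

end Split

end Groth.Agent.Vancyc.H677.GenEtale
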