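import Groth.Agent.Hensel.LocalSplit
import Mathlib.RingTheory.QuasiFinite.Weakly
import Mathlib.RingTheory.ZariskisMainTheorem
import Mathlib.RingTheory.Localization.AtPrime.Basic

/-!
# Essentially finite type local algebras over a henselian local ring with finite closed fibre are finite
-/

set_option autoImplicit false
universe u

namespace Groth.Agent.Vancyc.H677.HensFin

open IsLocalRing

theorem quasiFiniteAt {R : Type u} [CommRing R] [IsLocalRing R]
    {S : Type u} [CommRing S] [Algebra R S] [Algebra.FiniteType R S] (q : Ideal S) [q.IsPrime]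
    (hq : q.LiesOver (maximalIdeal R))
    (h : Module.Finite R (Localization.AtPrime q ⧸
      (maximalIdeal R).map (algebraMap R (Localization.AtPrime q)))) :
    Algebra.QuasiFiniteAt R q := by
  have h1 : Algebra.WeaklyQuasiFiniteAt R q := by
    rw [Algebra.weaklyQuasiFiniteAt_iff]
    have h2 : q.under R = maximalIdeal R := hq.over.symm
    rw [h2]
    infer_instance
  exact .of_weaklyQuasiFiniteAt q

/-- the local ring at an isolated point of the closed fibre over a henselian local ring is finite. -/
theorem finite_atPrime {R : Type u} [CommRing R] [HenselianLocalRing R]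
    {S : Type u} [CommRing S] [Algebra R S] [Algebra.FiniteType R S] (q : Ideal S) [q.IsPrime]
    (hq : q.LiesOver (maximalIdeal R))
    (h : Module.Finite R (Localization.AtPrime q ⧸
      (maximalIdeal R).map (algebraMap R (Localization.AtPrime q)))) :
    Module.Finite R (Localization.AtPrime q) := by
  have hqf := quasiFiniteAt q hq h
  obtain ⟨e, he, heq, hfin, huniq⟩ :=
    Groth.Agent.Hensel.LocalSplit.exists_isIdempotentElem_of_quasiFiniteAt (R := R) q
  -- the map `S/(1-e) → S_q`
  have hunit : IsUnit (algebraMap S (Localization.AtPrime q) e) :=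
    IsLocalization.map_units (Localization.AtPrime q) (⟨e, heq⟩ : q.primeCompl)
  have he1 : algebraMap S (Localization.AtPrime q) (1 - e) = 0 := by
    have h1 : algebraMap S (Localization.AtPrime q) e * algebraMap S (Localization.AtPrime q) (1 - e) = 0 := by
      rw [← map_mul, mul_sub, mul_one, he.eq, sub_self, map_zero]
    exact (hunit.mul_right_eq_zero).mp h1
  let g : (S ⧸ Ideal.span {1 - e}) →ₐ[R] Localization.AtPrime q :=
    Ideal.Quotient.liftₐ _ (IsScalarTower.toAlgHom R S (Localization.AtPrime q)) (fun a ha => by
      obtain ⟨b, rfl⟩ := Ideal.mem_span_singleton'.mp ha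
      change algebraMap S (Localization.AtPrime q) (b * (1 - e)) = 0
      rw [map_mul, he1, mul_zero])
  have hg : ∀ a : S, g (Ideal.Quotient.mk _ a) = algebraMap S (Localization.AtPrime q) a := fun a => rfl
  -- elements outside `q` are units modulo `1 - e`
  have hu : ∀ t : S, t ∉ q → IsUnit (Ideal.Quotient.mk (Ideal.span {1 - e}) t) := by
    intro t ht
    by_contra hnu
    obtain ⟨N, hN, htN⟩ := exists_max_ideal_of_mem_nonunits hnu
    have hNp := hN.isPrime
    let N' : Ideal S := N.comap (Ideal.Quotient.mk (Ideal.span {1 - e}))
    have hNlies : N.LiesOver (maximalIdeal R) := by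
      have hint : Algebra.IsIntegral R (S ⧸ Ideal.span {1 - e}) := inferInstance
      exact ⟨(IsLocalRing.eq_maximalIdeal (Ideal.isMaximal_comap_of_isIntegral_of_isMaximal (R := R) N)).symm⟩
    have hN'lies : N'.LiesOver (maximalIdeal R) := ⟨by
      rw [hNlies.over]
      rfl⟩
    have heN : e ∉ N' := by
      intro heN
      apply hNp.ne_top
      rw [Ideal.eq_top_iff_one]
      have h1 : Ideal.Quotient.mk (Ideal.span {1 - e}) e = 1 := by
        rw [← map_one (Ideal.Quotient.mk (Ideal.span {1 - e})), eq_comm, Ideal.Quotient.eq]
        exact Ideal.mem_span_singleton_self _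
      rw [← h1]
      exact heN
    have h2 := huniq N' (Ideal.comap_isPrime _ _) hN'lies heN
    apply ht
    rw [← h2]
    exact htN
  have hgs : Function.Surjective g := by
    intro b
    obtain ⟨a, t, rfl⟩ := IsLocalization.exists_mk'_eq q.primeCompl b
    obtain ⟨v, hv⟩ := (hu t t.2).exists_right_inv
    refine ⟨Ideal.Quotient.mk _ a * v, ?_⟩
    rw [map_mul, hg, eq_comm, IsLocalization.mk'_eq_iff_eq_mul, mul_assoc]
    have h3 : g v * algebraMap S (Localization.AtPrime q) t = 1 := by
      rw [← hg, ← map_mul, mul_comm, hv, map_one]
    rw [h3, mul_one]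
  exact Module.Finite.of_surjective g.toLinearMap hgs

/-- version for an arbitrary model of the localization. -/
theorem finite_of_isLocalization {R : Type u} [CommRing R] [HenselianLocalRing R]
    {S : Type u} [CommRing S] [Algebra R S] [Algebra.FiniteType R S] (q : Ideal S) [q.IsPrime]
    (hq : q.LiesOver (maximalIdeal R)) (B : Type u) [CommRing B] [Algebra S B] [Algebra R B]
    [IsScalarTower R S B] [IsLocalization.AtPrime B q]
    (h : Module.Finite R (B ⧸ (maximalIdeal R).map (algebraMap R B))) :
    Module.Finite R B := by
  let e : Localization.AtPrime q ≃ₐ[R] B :=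
    (IsLocalization.algEquiv q.primeCompl (Localization.AtPrime q) B).restrictScalars R
  have he : (maximalIdeal R).map (algebraMap R (Localization.AtPrime q)) ≤
      ((maximalIdeal R).map (algebraMap R B)).comap e.toRingHom := by
    rw [Ideal.map_le_iff_le_comap]
    intro r hr
    rw [Ideal.mem_comap, Ideal.mem_comap]
    have : e.toRingHom (algebraMap R (Localization.AtPrime q) r) = algebraMap R B r := e.commutes r
    rw [this]
    exact Ideal.mem_map_of_mem _ hr
  have he' : (maximalIdeal R).map (algebraMap R B) =
      ((maximalIdeal R).map (algebraMap R (Localization.AtPrime q))).map e.toRingHom := by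
    rw [Ideal.map_map]
    congr 1
    ext r
    exact (e.commutes r).symm
  let e2 : (Localization.AtPrime q ⧸ (maximalIdeal R).map (algebraMap R (Localization.AtPrime q))) ≃ₐ[R]
      (B ⧸ (maximalIdeal R).map (algebraMap R B)) := Ideal.quotientEquivAlg _ _ e he'
  have h2 : Module.Finite R (Localization.AtPrime q ⧸
      (maximalIdeal R).map (algebraMap R (Localization.AtPrime q))) :=
    Module.Finite.equiv e2.symm.toLinearEquiv
  have h3 := finite_atPrime q hq h2
  exact Module.Finite.equiv e.toLinearEquiv

end Groth.Agent.Vancyc.H677.HensFin
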