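import Groth.Agent.Vancyc.H677.OrdPt
import Groth.Agent.Vancyc.H677.HensFin
import Groth.Agent.Vancyc.H677.FibStalk
import Groth.Agent.Etrest.IntHens
import Mathlib.RingTheory.LocalRing.Quotient
import Mathlib.AlgebraicGeometry.Morphisms.Finite
import Mathlib.AlgebraicGeometry.Morphisms.Flat
import Mathlib.AlgebraicGeometry.Noetherian
import Mathlib.RingTheory.Jacobson.Ring
import Mathlib.RingTheory.LocalRing.Module

/-!
# The local ring at an ordinary quadratic point of relative dimension zero over a strictly henselian base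

`𝒪_{X,y}` is finite and free of rank two over `R`, and strictly henselian.
-/

set_option autoImplicit false
universe u
open CategoryTheory CategoryTheory.Limits AlgebraicGeometry

namespace Groth.Agent.Vancyc.H677.LocRing

open IsLocalRing VanCyc FibStalk

section Alg

/-- comparison of the closed fibre of `B` with `O`. -/
theorem finite_and_finrank {R B O : Type u} [CommRing R] [IsLocalRing R] [CommRing B] [CommRing O]
    [Algebra R B] (ψ : ResidueField R →+* O) (π : B →+* O) (hπ : Function.Surjective π)
    (hker : RingHom.ker π = (maximalIdeal R).map (algebraMap R B))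
    (hcomp : ∀ r, π (algebraMap R B r) = ψ (residue R r))
    (h2 : letI := ψ.toAlgebra; Module.finrank (ResidueField R) O = 2) :
    Module.Finite R (B ⧸ (maximalIdeal R).map (algebraMap R B)) ∧
    ((Module.finrank (R ⧸ maximalIdeal R) (B ⧸ (maximalIdeal R).map (algebraMap R B))) = 2) := by
  let _ := ψ.toAlgebra
  have hfin : Module.Finite (ResidueField R) O := Module.finite_of_finrank_pos (by rw [h2]; norm_num)
  let _ : Algebra R O := (ψ.comp (residue R)).toAlgebra
  have : IsScalarTower R (ResidueField R) O := IsScalarTower.of_algebraMap_eq' rfl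
  let e0 : (B ⧸ (maximalIdeal R).map (algebraMap R B)) ≃+* O :=
    (Ideal.quotEquivOfEq hker.symm).trans (RingHom.quotientKerEquivOfSurjective hπ)
  have he0 : ∀ b : B, e0 (Ideal.Quotient.mk _ b) = π b := fun b => rfl
  let e : (B ⧸ (maximalIdeal R).map (algebraMap R B)) ≃ₐ[R] O :=
    AlgEquiv.ofRingEquiv (f := e0) (fun r => (he0 _).trans (hcomp r))
  have h3 : Module.Finite R O := Module.Finite.trans (ResidueField R) O
  refine ⟨Module.Finite.equiv e.symm.toLinearEquiv, ?_⟩
  rw [← h2]
  refine Algebra.finrank_eq_of_equiv_equiv (RingEquiv.refl (R ⧸ maximalIdeal R) :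
    (R ⧸ maximalIdeal R) ≃+* ResidueField R) e0 ?_
  ext r
  exact ((he0 _).trans (hcomp r)).symm

end Alg

section Field

variable {k : Type u} [Field k] {Y : Scheme.{u}} (g : Y ⟶ Spec (CommRingCat.of k)) [LocallyOfFiniteType g]

/-- the residue field at a closed point is finite. -/
theorem residue_finite (y : Y) (hy : IsClosed ({y} : Set Y)) :
    ((IsLocalRing.residue (Y.presheaf.stalk y)).comp (resHom g y)).Finite := by
  have : JacobsonSpace (Spec (CommRingCat.of k)) := inferInstance
  have : JacobsonSpace Y := LocallyOfFiniteType.jacobsonSpace g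
  have h1 : LocallyOfFiniteType (Y.fromSpecResidueField y) :=
    isClosed_singleton_iff_locallyOfFiniteType.mp hy
  have h2 : LocallyOfFiniteType (Y.fromSpecResidueField y ≫ g) := inferInstance
  have h3 : IsFinite (Y.fromSpecResidueField y ≫ g) :=
    isFinite_iff_locallyOfFiniteType_of_jacobsonSpace.mpr h2
  have h4 : Y.fromSpecResidueField y ≫ g =
      Spec.map (CommRingCat.ofHom ((IsLocalRing.residue (Y.presheaf.stalk y)).comp (resHom g y))) := by
    rw [CommRingCat.ofHom_comp, Spec.map_comp, ← strHom_eq_resHom, ← fromSpecStalk_comp,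
      Scheme.fromSpecResidueField, Category.assoc]
    rfl
  rw [h4] at h3
  exact (IsFinite.SpecMap_iff _).mp h3

include g in
theorem isNoetherianRing_stalk (y : Y) : IsNoetherianRing (Y.presheaf.stalk y) := by
  have : IsLocallyNoetherian Y := LocallyOfFiniteType.isLocallyNoetherian g
  infer_instance

end Field

section Stalk

variable {R : Type u} [CommRing R] {X : Scheme.{u}} (f : X ⟶ Spec (CommRingCat.of R))

/-- the structure map on an open. -/
noncomputable def strAff (U : X.Opens) : R →+* Γ(X, U) :=
  (f.appLE ⊤ U le_top).hom.comp (Scheme.ΓSpecIso (CommRingCat.of R)).inv.hom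

theorem germ_strAff (U : X.Opens) (y : X) (hy : y ∈ U) :
    (X.presheaf.germ U y hy).hom.comp (strAff f U) = strHom f y := by
  have h1 : CommRingCat.ofHom ((X.presheaf.germ U y hy).hom.comp (strAff f U)) =
      CommRingCat.ofHom (strHom f y) := by
    rw [ofHom_strHom, CommRingCat.ofHom_comp, strAff, CommRingCat.ofHom_comp]
    simp [Scheme.Hom.appLE]
  exact congrArg CommRingCat.Hom.hom h1

theorem finiteType_strAff [LocallyOfFiniteType f] (U : X.Opens) (hU : IsAffineOpen U) :
    (strAff f U).FiniteType := by
  refine RingHom.FiniteType.comp (f.finiteType_appLE (isAffineOpen_top _) hU le_top) ?_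
  exact RingHom.FiniteType.of_surjective _
    (Scheme.ΓSpecIso (CommRingCat.of R)).commRingCatIsoToRingEquiv.symm.surjective

theorem flat_strAff [Flat f] (U : X.Opens) (hU : IsAffineOpen U) :
    (strAff f U).Flat := by
  refine RingHom.Flat.comp ?_ (f.flat_appLE (isAffineOpen_top _) hU le_top)
  exact RingHom.Flat.of_bijective
    (Scheme.ΓSpecIso (CommRingCat.of R)).commRingCatIsoToRingEquiv.symm.bijective

theorem flat_strHom [Flat f] (y : X) : (strHom f y).Flat := by
  obtain ⟨U, hU, hy, -⟩ := TopologicalSpace.Opens.isBasis_iff_nbhd.mp X.isBasis_affineOpens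
    (show y ∈ (⊤ : X.Opens) from trivial)
  have hU' : IsAffineOpen U := hU
  rw [← germ_strAff f U y hy]
  refine RingHom.Flat.comp (flat_strAff f U hU') ?_
  have h1 := hU'.isLocalization_stalk ⟨y, hy⟩
  let _ : Algebra Γ(X, U) (X.presheaf.stalk y) := (X.presheaf.germ U y hy).hom.toAlgebra
  have h2 : IsLocalization.AtPrime (X.presheaf.stalk y) (hU'.primeIdealOf ⟨y, hy⟩).asIdeal := h1
  exact RingHom.flat_algebraMap_iff.mpr (IsLocalization.flat (X.presheaf.stalk y)
    (hU'.primeIdealOf ⟨y, hy⟩).asIdeal.primeCompl)

end Stalk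

section Main

variable {R : Type u} [CommRing R] {X : Scheme.{u}} (f : X ⟶ Spec (CommRingCat.of R))

/-- the local ring at a point of the closed fibre is finite over the henselian base as soon as its closed
fibre is finite. -/
theorem finite_stalk_of_fibre [HenselianLocalRing R] [LocallyOfFiniteType f] (y : X)
    (hle : (maximalIdeal R).map (strHom f y) ≤ maximalIdeal (X.presheaf.stalk y))
    (h : letI := (strHom f y).toAlgebra
      Module.Finite R (X.presheaf.stalk y ⧸ (maximalIdeal R).map (strHom f y))) :
    (strHom f y).Finite := by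
  obtain ⟨U, hU, hy, -⟩ := TopologicalSpace.Opens.isBasis_iff_nbhd.mp X.isBasis_affineOpens
    (show y ∈ (⊤ : X.Opens) from trivial)
  have hU' : IsAffineOpen U := hU
  let _ : Algebra R (X.presheaf.stalk y) := (strHom f y).toAlgebra
  let _ : Algebra Γ(X, U) (X.presheaf.stalk y) := (X.presheaf.germ U y hy).hom.toAlgebra
  let _ : Algebra R Γ(X, U) := (strAff f U).toAlgebra
  have htower : IsScalarTower R Γ(X, U) (X.presheaf.stalk y) :=
    IsScalarTower.of_algebraMap_eq' (germ_strAff f U y hy).symm
  have h1 : IsLocalization.AtPrime (X.presheaf.stalk y) (hU'.primeIdealOf ⟨y, hy⟩).asIdeal :=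
    hU'.isLocalization_stalk ⟨y, hy⟩
  have hft : Algebra.FiniteType R Γ(X, U) := RingHom.finiteType_algebraMap.mp (finiteType_strAff f U hU')
  have hq : (hU'.primeIdealOf ⟨y, hy⟩).asIdeal.LiesOver (maximalIdeal R) := by
    refine ⟨?_⟩
    have h2 : (hU'.primeIdealOf ⟨y, hy⟩).asIdeal =
        (maximalIdeal (X.presheaf.stalk y)).comap (algebraMap Γ(X, U) (X.presheaf.stalk y)) :=
      (IsLocalization.AtPrime.under_maximalIdeal (X.presheaf.stalk y)
        (hU'.primeIdealOf ⟨y, hy⟩).asIdeal).symm
    have h3 : (maximalIdeal (X.presheaf.stalk y)).comap (strHom f y) = maximalIdeal R := by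
      refine (IsLocalRing.eq_maximalIdeal ?_)
      have h4 : maximalIdeal R ≤ (maximalIdeal (X.presheaf.stalk y)).comap (strHom f y) :=
        Ideal.map_le_iff_le_comap.mp hle
      have h5 := (maximalIdeal.isMaximal R).eq_of_le (Ideal.comap_ne_top _
        (maximalIdeal.isMaximal (X.presheaf.stalk y)).ne_top) h4
      rw [← h5]
      exact maximalIdeal.isMaximal R
    rw [h2, Ideal.under, Ideal.comap_comap, ← IsScalarTower.algebraMap_eq]
    exact h3.symm
  exact RingHom.finite_algebraMap.mpr (HensFin.finite_of_isLocalization (R := R)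
    (hU'.primeIdealOf ⟨y, hy⟩).asIdeal hq (X.presheaf.stalk y) h)

/-- the local ring at an ordinary quadratic point of relative dimension zero is finite free of rank two over the
strictly henselian base, and strictly henselian. -/
theorem stalk_props [HenselianLocalRing R] [IsSepClosed (ResidueField R)] [LocallyOfFiniteType f] [Flat f]
    (x : spFib R f) (hxc : IsClosed ({x} : Set (spFib R f)))
    (hq : IsOrdQuadPt (resHom (spStr R f) x) 0) :
    letI := (strHom f (icl R f x)).toAlgebra
    Module.Finite R (X.presheaf.stalk (icl R f x)) ∧ Module.Free R (X.presheaf.stalk (icl R f x)) ∧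
      Module.finrank R (X.presheaf.stalk (icl R f x)) = 2 ∧
      HenselianLocalRing (X.presheaf.stalk (icl R f x)) ∧
      IsSepClosed (ResidueField (X.presheaf.stalk (icl R f x))) := by
  let _ : Algebra R (X.presheaf.stalk (icl R f x)) := (strHom f (icl R f x)).toAlgebra
  have hN := isNoetherianRing_stalk (spStr R f) x
  have h2 := OrdPt.finrank_eq_two (resHom (spStr R f) x) (residue_finite (spStr R f) x hxc) hq
  obtain ⟨h3, h4⟩ := finite_and_finrank (R := R) (B := X.presheaf.stalk (icl R f x))
    (O := (spFib R f).presheaf.stalk x) (resHom (spStr R f) x) ((icl R f).stalkMap x).hom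
    (stalkMap_icl_surjective R f x) (ker_stalkMap_icl R f x)
    (fun r => stalkMap_icl_strHom R f x r) h2
  have hle : (maximalIdeal R).map (strHom f (icl R f x)) ≤
      maximalIdeal (X.presheaf.stalk (icl R f x)) :=
    (fibIdeal_le_ker R f x).trans (IsLocalRing.le_maximalIdeal (RingHom.ker_ne_top _))
  have hfin : Module.Finite R (X.presheaf.stalk (icl R f x)) :=
    RingHom.finite_algebraMap.mp (finite_stalk_of_fibre f (icl R f x) hle h3)
  have hflat : Module.Flat R (X.presheaf.stalk (icl R f x)) :=
    RingHom.flat_algebraMap_iff.mp (flat_strHom f (icl R f x))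
  have hfree : Module.Free R (X.presheaf.stalk (icl R f x)) := Module.free_of_flat_of_isLocalRing
  have hint : Algebra.IsIntegral R (X.presheaf.stalk (icl R f x)) := inferInstance
  refine ⟨hfin, hfree, ?_, Groth.Agent.Etrest.IntHens.henselianLocalRing_of_isIntegral R _, ?_⟩
  · rw [← IsLocalRing.finrank_quotient_map]
    exact h4
  · have hloc : IsLocalHom (algebraMap R (X.presheaf.stalk (icl R f x))) := by
      refine ((IsLocalRing.local_hom_TFAE _).out 0 2 rfl rfl).mpr hle
    have : Algebra.IsAlgebraic (ResidueField R) (ResidueField (X.presheaf.stalk (icl R f x))) :=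
      inferInstance
    exact Algebra.IsAlgebraic.isSepClosed (F := ResidueField R)
      (E := ResidueField (X.presheaf.stalk (icl R f x)))

end Main

end Groth.Agent.Vancyc.H677.LocRing
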