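import Groth.Agent.Vancyc.H677.SeriesQuot
import Groth.Agent.Vancyc.H677.AdicFin
import Mathlib.RingTheory.Spectrum.Prime.Homeomorph
import Mathlib.FieldTheory.PurelyInseparable.Basic
import Mathlib.RingTheory.Finiteness.Ideal
import Mathlib.LinearAlgebra.Dimension.Constructions
import Mathlib.RingTheory.Flat.Basic

/-!
# Ordinary quadratic points of relative dimension zero over a separably closed field

Let `k` be separably closed and `O` a Noetherian local `k`-algebra with finite residue field extension. If `O` is an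
ordinary quadratic point of dimension zero, then `dim_k O = 2`.
-/

set_option autoImplicit false
universe u

open scoped TensorProduct

namespace Groth.Agent.Vancyc.H677.OrdPt

open IsLocalRing VanCyc

variable {k : Type u} [Field k] {O : Type u} [CommRing O]

section Local

variable [Algebra k O] [IsLocalRing O] [IsSepClosed k] (K : Type u) [Field K] [Algebra k K]
  [Algebra.IsAlgebraic k K]

/-- every element of `K ⊗ O` has a power coming from `O`. -/
theorem exists_pow_mem {O : Type u} [CommRing O] [Algebra k O] (x : K ⊗[k] O) :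
    ∃ n > 0, ∃ a : O, (1 : K) ⊗ₜ[k] a = x ^ n := by
  have : IsPurelyInseparable k K := inferInstance
  let q := ringExpChar k
  obtain ⟨n, hn, a, ha⟩ := IsPurelyInseparable.exists_pow_mem_range_tensorProduct
    (k := k) (K := K) (R := O) (Algebra.TensorProduct.comm k K O x)
  refine ⟨n, hn, a, ?_⟩
  apply (Algebra.TensorProduct.comm k K O).injective
  rw [map_pow, ← ha]
  rfl

theorem eq_of_isMaximal (M M' : Ideal (K ⊗[k] O)) [hM : M.IsMaximal] [hM' : M'.IsMaximal] : M = M' := by
  have key : ∀ (N : Ideal (K ⊗[k] O)) [N.IsMaximal] (x : K ⊗[k] O) (n : ℕ) (hn : 0 < n) (a : O)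
      (ha : (1 : K) ⊗ₜ[k] a = x ^ n), x ∈ N ↔ a ∈ maximalIdeal O := by
    intro N hN x n hn a ha
    have hNp := hN.isPrime
    constructor
    · intro hx hu
      have h1 : IsUnit (x ^ n) := by
        rw [← ha]
        exact hu.map (Algebra.TensorProduct.includeRight : O →ₐ[k] K ⊗[k] O)
      have h2 : x ^ n ∈ N := Ideal.pow_mem_of_mem N hx n hn
      exact hNp.ne_top (Ideal.eq_top_of_isUnit_mem _ h2 h1)
    · intro hax
      apply hNp.mem_of_pow_mem n
      rw [← ha]
      -- `N` lies over the maximal ideal
      have hint : Algebra.IsIntegral O (O ⊗[k] K) := inferInstance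
      let N' : Ideal (O ⊗[k] K) := N.comap (Algebra.TensorProduct.comm k O K).toRingHom
      have hN' : N'.IsMaximal := Ideal.comap_isMaximal_of_surjective _ (Algebra.TensorProduct.comm k O K).surjective
      have h3 := Ideal.isMaximal_comap_of_isIntegral_of_isMaximal (R := O) N'
      have h4 := IsLocalRing.eq_maximalIdeal h3
      rw [← h4] at hax
      exact hax
  ext x
  obtain ⟨n, hn, a, ha⟩ := exists_pow_mem K x
  rw [key M x n hn a ha, key M' x n hn a ha]

theorem isLocalRing_tensor : IsLocalRing (K ⊗[k] O) := by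
  have : Nontrivial (K ⊗[k] O) :=
    Algebra.TensorProduct.nontrivial_of_algebraMap_injective_of_flat_right k K O
      (algebraMap k K).injective
  obtain ⟨M, hM⟩ := Ideal.exists_maximal (K ⊗[k] O)
  exact IsLocalRing.of_unique_max_ideal ⟨M, hM, fun M' hM' => by
    have := hM
    have : M'.IsMaximal := hM'
    exact eq_of_isMaximal K M' M⟩

/-- the maximal ideal is finitely generated. -/
theorem fg_isMaximal [IsNoetherianRing O] [Module.Finite k (ResidueField O)]
    (M : Ideal (K ⊗[k] O)) [hM : M.IsMaximal] : M.FG := by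
  let ι : O →ₐ[k] K ⊗[k] O := Algebra.TensorProduct.includeRight
  let J : Ideal (K ⊗[k] O) := (maximalIdeal O).map ι
  have hJ : J.FG := Ideal.FG.map (IsNoetherian.noetherian (maximalIdeal O)) ι.toRingHom
  have hJM : J ≤ M := by
    rw [Ideal.map_le_iff_le_comap]
    intro a ha
    by_contra hna
    -- by maximality
    have hMp := hM.isPrime
    have hint : Algebra.IsIntegral O (O ⊗[k] K) := inferInstance
    let N' : Ideal (O ⊗[k] K) := M.comap (Algebra.TensorProduct.comm k O K).toRingHom
    have hN' : N'.IsMaximal := Ideal.comap_isMaximal_of_surjective _ (Algebra.TensorProduct.comm k O K).surjective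
    have h3 := Ideal.isMaximal_comap_of_isIntegral_of_isMaximal (R := O) N'
    have h4 := IsLocalRing.eq_maximalIdeal h3
    rw [← h4] at ha
    exact hna ha
  let g : K ⊗[k] (O ⧸ maximalIdeal O) →ₐ[K] (K ⊗[k] O) ⧸ J :=
    Algebra.TensorProduct.lift (Algebra.ofId K _)
      (Ideal.Quotient.liftₐ (maximalIdeal O) ((Ideal.Quotient.mkₐ k J).comp ι) (fun a ha => by
        exact Ideal.Quotient.eq_zero_iff_mem.mpr (Ideal.mem_map_of_mem _ ha))) (fun _ _ => .all _ _)
  have hg : Function.Surjective g := by
    intro y
    obtain ⟨y, rfl⟩ := Ideal.Quotient.mk_surjective y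
    induction y using TensorProduct.induction_on with
    | zero => exact ⟨0, by rw [map_zero, map_zero]⟩
    | add a b ha hb =>
      obtain ⟨a', ha'⟩ := ha
      obtain ⟨b', hb'⟩ := hb
      exact ⟨a' + b', by rw [map_add, ha', hb', map_add]⟩
    | tmul a b =>
      refine ⟨a ⊗ₜ Ideal.Quotient.mk _ b, ?_⟩
      rw [Algebra.TensorProduct.lift_tmul]
      change algebraMap K ((K ⊗[k] O) ⧸ J) a * Ideal.Quotient.mk J (1 ⊗ₜ b) = _
      have : algebraMap K ((K ⊗[k] O) ⧸ J) a = Ideal.Quotient.mk J (a ⊗ₜ 1) := rfl
      rw [this, ← map_mul, Algebra.TensorProduct.tmul_mul_tmul, mul_one, one_mul]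
  have hfin : Module.Finite k (O ⧸ maximalIdeal O) := ‹Module.Finite k (ResidueField O)›
  have h1 : Module.Finite K ((K ⊗[k] O) ⧸ J) := Module.Finite.of_surjective g.toLinearMap hg
  have h2 : IsNoetherianRing ((K ⊗[k] O) ⧸ J) := IsNoetherianRing.of_finite K _
  refine Ideal.fg_of_fg_map_of_fg_inf_ker_of_surjective (f := Ideal.Quotient.mk J)
    (IsNoetherian.noetherian _) ?_ Ideal.Quotient.mk_surjective
  rw [Ideal.mk_ker, inf_eq_right.mpr hJM]
  exact hJ

end Local

/-- `dim_k O = 2` at an ordinary quadratic point of dimension zero. -/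
theorem finrank_eq_two [IsSepClosed k] [IsLocalRing O] [IsNoetherianRing O] (φ : k →+* O)
    (hfin : ((IsLocalRing.residue O).comp φ).Finite) (h : IsOrdQuadPt φ 0) :
    letI := φ.toAlgebra
    Module.finrank k O = 2 := by
  let _ := φ.toAlgebra
  have hfin' : Module.Finite k (ResidueField O) := by
    have h1 : ((IsLocalRing.residue O).comp φ) = algebraMap k (ResidueField O) := rfl
    rw [h1] at hfin
    exact RingHom.finite_algebraMap.mp hfin
  let K := AlgebraicClosure k
  have hloc : IsLocalRing (K ⊗[k] O) := isLocalRing_tensor K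
  let M : Ideal (K ⊗[k] O) := maximalIdeal _
  obtain ⟨f, hf, ⟨e⟩⟩ := h M
  have hMfg : M.FG := fg_isMaximal K M
  have h1 : Module.Finite K (MvPowerSeries (Fin (0 + 1)) K ⧸ Ideal.span {f}) := SeriesQuot.finite_quotient hf
  have h2 : Module.finrank K (MvPowerSeries (Fin (0 + 1)) K ⧸ Ideal.span {f}) = 2 :=
    SeriesQuot.finrank_quotient hf
  have h3 : Module.Finite K (AdicCompletion (maximalIdeal (Localization.AtPrime M))
      (Localization.AtPrime M)) := Module.Finite.equiv e.symm.toLinearEquiv
  have h4 : (maximalIdeal (Localization.AtPrime M)).FG := by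
    rw [← Localization.AtPrime.map_eq_maximalIdeal]
    exact hMfg.map _
  have h5 := AdicFin.finrank_completion K (Localization.AtPrime M) h4
  rw [e.toLinearEquiv.finrank_eq, h2] at h5
  have hbij : Function.Bijective (algebraMap (K ⊗[k] O) (Localization.AtPrime M)) := by
    have hle : M.primeCompl ≤ IsUnit.submonoid (K ⊗[k] O) := fun x hx => by
      by_contra hu
      exact hx hu
    exact (IsLocalization.atUnits (K ⊗[k] O) M.primeCompl (S := Localization.AtPrime M) hle).bijective
  let e' : (K ⊗[k] O) ≃ₗ[K] Localization.AtPrime M :=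
    LinearEquiv.ofBijective (IsScalarTower.toAlgHom K (K ⊗[k] O) (Localization.AtPrime M)).toLinearMap hbij
  rw [← e'.finrank_eq, Module.finrank_baseChange] at h5
  exact h5.symm

end Groth.Agent.Vancyc.H677.OrdPt
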