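import Groth.Prelude.Def_QuadSing
import Mathlib.RingTheory.MvPowerSeries.Inverse
import Mathlib.LinearAlgebra.Dimension.Constructions

/-!
# Ordinary quadratic singularities of dimension zero

`k[[x_0]]/(f)` has dimension two over `k` for an ordinary quadratic series `f` in one variable.
-/

set_option autoImplicit false
universe u

namespace Groth.Agent.Vancyc.H677.SeriesQuot

open MvPowerSeries VanCyc

variable {k : Type u} [Field k]

/-- the quadratic coefficient of an ordinary quadratic series in one variable is nonzero. -/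
theorem coeff_two_ne_zero {f : MvPowerSeries (Fin 1) k} (hf : OrdQuadSeries f) :
    coeff (Finsupp.single 0 2) f ≠ 0 := by
  intro h0
  have h1 := hf.2 (fun _ => 1) (by simp [quadEval, quadPart, h0]) (by
    ext i
    fin_cases i
    simp [polarMatrix, quadPart, h0, Matrix.mulVec, dotProduct])
  have h2 := congrFun h1 0
  simp at h2

theorem finsupp_eq (m : Fin 1 →₀ ℕ) : m = Finsupp.single 0 (m 0) := by
  refine Finsupp.ext fun i => ?_
  fin_cases i
  simp

/-- an ordinary quadratic series in one variable is a unit times `x²`. -/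
theorem exists_unit_mul {f : MvPowerSeries (Fin 1) k} (hf : OrdQuadSeries f) :
    ∃ u : (MvPowerSeries (Fin 1) k)ˣ, f = (X 0 : MvPowerSeries (Fin 1) k) ^ 2 * u := by
  have h2 : (X 0 : MvPowerSeries (Fin 1) k) ^ 2 ∣ f := by
    rw [X_pow_dvd_iff]
    intro m hm
    rw [finsupp_eq m]
    interval_cases h : m 0
    · rw [Finsupp.single_zero]
      exact hf.1.1
    · exact hf.1.2 0
  obtain ⟨g, hg⟩ := h2
  have hu : IsUnit g := by
    rw [isUnit_iff_constantCoeff, isUnit_iff_ne_zero]
    intro h0
    apply coeff_two_ne_zero hf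
    rw [hg, X_pow_eq, coeff_monomial_mul]
    simp [h0]
  exact ⟨hu.unit, hg⟩

theorem span_eq {f : MvPowerSeries (Fin 1) k} (hf : OrdQuadSeries f) :
    Ideal.span {f} = Ideal.span {(X 0 : MvPowerSeries (Fin 1) k) ^ 2} := by
  obtain ⟨u, hu⟩ := exists_unit_mul hf
  rw [hu]
  exact Ideal.span_singleton_mul_right_unit u.isUnit _

/-- the first two coefficients. -/
noncomputable def coeffs : MvPowerSeries (Fin 1) k →ₗ[k] k × k :=
  LinearMap.prod (coeff 0) (coeff (Finsupp.single 0 1))

theorem ker_coeffs : LinearMap.ker (coeffs (k := k)) =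
    (Ideal.span {(X 0 : MvPowerSeries (Fin 1) k) ^ 2}).restrictScalars k := by
  ext g
  rw [Submodule.restrictScalars_mem, Ideal.mem_span_singleton, X_pow_dvd_iff, LinearMap.mem_ker]
  constructor
  · intro h m hm
    have h1 := congrArg Prod.fst h
    have h2 := congrArg Prod.snd h
    rw [finsupp_eq m]
    interval_cases h : m 0
    · rw [Finsupp.single_zero]
      exact h1
    · exact h2
  · intro h
    exact Prod.ext (h 0 (by simp)) (h _ (by simp))

theorem coeffs_surjective : Function.Surjective (coeffs (k := k)) := by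
  rintro ⟨a, b⟩
  refine ⟨monomial 0 a + monomial (Finsupp.single 0 1) b, ?_⟩
  have h01 : (0 : Fin 1 →₀ ℕ) ≠ Finsupp.single 0 1 := by
    intro h
    have := DFunLike.congr_fun h 0
    simp at this
  apply Prod.ext
  · change coeff 0 _ = a
    rw [map_add, coeff_monomial, coeff_monomial, if_pos rfl, if_neg h01, add_zero]
  · change coeff (Finsupp.single 0 1) _ = b
    rw [map_add, coeff_monomial, coeff_monomial, if_pos rfl, if_neg h01.symm, zero_add]

/-- `k[[x]]/(f)` has dimension two. -/
theorem finrank_quotient {f : MvPowerSeries (Fin 1) k} (hf : OrdQuadSeries f) :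
    Module.finrank k (MvPowerSeries (Fin 1) k ⧸ Ideal.span {f}) = 2 := by
  rw [span_eq hf]
  let e : (MvPowerSeries (Fin 1) k ⧸ Ideal.span {(X 0 : MvPowerSeries (Fin 1) k) ^ 2}) ≃ₗ[k] (k × k) :=
    (Submodule.Quotient.restrictScalarsEquiv k (Ideal.span {(X 0 : MvPowerSeries (Fin 1) k) ^ 2})).symm.trans
      ((Submodule.quotEquivOfEq _ _ ker_coeffs.symm).trans (coeffs.quotKerEquivOfSurjective coeffs_surjective))
  rw [e.finrank_eq]
  simp

theorem finite_quotient {f : MvPowerSeries (Fin 1) k} (hf : OrdQuadSeries f) :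
    Module.Finite k (MvPowerSeries (Fin 1) k ⧸ Ideal.span {f}) :=
  Module.finite_of_finrank_pos (by rw [finrank_quotient hf]; norm_num)

end Groth.Agent.Vancyc.H677.SeriesQuot
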